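import Cfsg.Agent.Chev.AllC
import Cfsg.Agent.Chev.Tor

/-! The kernels `zker` of the tori of the seven types. -/

set_option autoImplicit false

namespace Cfsg.Agent.Chev

open Cfsg.Lie

/-- A table as a function. -/
def tab {m n : ℕ} (L : List (List ℤ)) (i : Fin m) (j : Fin n) : ℤ := nth 0 (nth [] L i) j

variable (F : Type*) [Field F]

/-- The kernel of the torus of type G2. -/
def zkerG2 : zker chevG2 F ≃ (Fin 0 → (powMonoidHom 1 : Fˣ →* Fˣ).ker) :=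
  zkerEquiv 1 (tab []) ![]
    (tab [[2, 1], [3, 2]]) (tab [])
    (by decide +kernel) (by decide +kernel) (by decide +kernel) (by decide +kernel)

theorem zkerG2_eq_bot : zker chevG2 F = ⊥ :=
  haveI := (zkerG2 F).subsingleton
  Subgroup.eq_bot_of_subsingleton _

/-- The kernel of the torus of type F4. -/
def zkerF4 : zker chevF4 F ≃ (Fin 0 → (powMonoidHom 1 : Fˣ →* Fˣ).ker) :=
  zkerEquiv 1 (tab []) ![]
    (tab [[2, 3, 2, 1], [3, 6, 4, 2], [4, 8, 6, 3], [2, 4, 3, 2]]) (tab [])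
    (by decide +kernel) (by decide +kernel) (by decide +kernel) (by decide +kernel)

theorem zkerF4_eq_bot : zker chevF4 F = ⊥ :=
  haveI := (zkerF4 F).subsingleton
  Subgroup.eq_bot_of_subsingleton _

/-- The kernel of the torus of type E8. -/
def zkerE8 : zker chevE8 F ≃ (Fin 0 → (powMonoidHom 1 : Fˣ →* Fˣ).ker) :=
  zkerEquiv 1 (tab []) ![]
    (tab [[4, 5, 7, 10, 8, 6, 4, 2], [5, 8, 10, 15, 12, 9, 6, 3], [7, 10, 14, 20, 16, 12, 8, 4], [10, 15, 20, 30, 24, 18, 12, 6], [8, 12, 16, 24, 20, 15, 10, 5], [6, 9, 12, 18, 15, 12, 8, 4], [4, 6, 8, 12, 10, 8, 6, 3], [2, 3, 4, 6, 5, 4, 3, 2]]) (tab [])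
    (by decide +kernel) (by decide +kernel) (by decide +kernel) (by decide +kernel)

theorem zkerE8_eq_bot : zker chevE8 F = ⊥ :=
  haveI := (zkerE8 F).subsingleton
  Subgroup.eq_bot_of_subsingleton _

/-- The kernel of the torus of type B2. -/
def zkerB2 : zker chevB2 F ≃ (Fin 1 → (powMonoidHom 2 : Fˣ →* Fˣ).ker) :=
  zkerEquiv 2 (tab [[1, 0]]) ![⟨0, by decide⟩]
    (tab [[0, 0], [1, 1]]) (tab [[2, 1]])
    (by decide +kernel) (by decide +kernel) (by decide +kernel) (by decide +kernel)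

theorem card_zkerB2 [Finite F] : Nat.card (zker chevB2 F) = Nat.gcd 2 (Nat.card F - 1) := by
  rw [Nat.card_congr (zkerB2 F), Nat.card_fun, card_pow_ker]; simp

/-- The kernel of the torus of type D4. -/
def zkerD4 : zker chevD4 F ≃ (Fin 2 → (powMonoidHom 2 : Fˣ →* Fˣ).ker) :=
  zkerEquiv 2 (tab [[1, 0, 0, 1], [0, 0, 1, 1]]) ![⟨0, by decide⟩, ⟨2, by decide⟩]
    (tab [[0, 0, 0, 0], [1, 2, 1, 1], [0, 0, 0, 0], [-1, -1, -1, 0]]) (tab [[2, 2, 1, 1], [1, 2, 2, 1]])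
    (by decide +kernel) (by decide +kernel) (by decide +kernel) (by decide +kernel)

theorem card_zkerD4 [Finite F] : Nat.card (zker chevD4 F) = Nat.gcd 2 (Nat.card F - 1) ^ 2 := by
  rw [Nat.card_congr (zkerD4 F), Nat.card_fun, card_pow_ker]; simp

/-- The kernel of the torus of type E6. -/
def zkerE6 : zker chevE6 F ≃ (Fin 1 → (powMonoidHom 3 : Fˣ →* Fˣ).ker) :=
  zkerEquiv 3 (tab [[1, 0, 2, 0, 1, 2]]) ![⟨0, by decide⟩]
    (tab [[0, 0, 0, 0, 0, 0], [1, 2, 2, 3, 2, 1], [-1, 0, 0, 0, 0, 0], [2, 3, 4, 6, 4, 2], [0, 1, 1, 2, 2, 1], [-2, -1, -2, -2, -1, 0]]) (tab [[4, 3, 5, 6, 4, 2]])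
    (by decide +kernel) (by decide +kernel) (by decide +kernel) (by decide +kernel)

theorem card_zkerE6 [Finite F] : Nat.card (zker chevE6 F) = Nat.gcd 3 (Nat.card F - 1) := by
  rw [Nat.card_congr (zkerE6 F), Nat.card_fun, card_pow_ker]; simp

/-- The kernel of the torus of type E7. -/
def zkerE7 : zker chevE7 F ≃ (Fin 1 → (powMonoidHom 2 : Fˣ →* Fˣ).ker) :=
  zkerEquiv 2 (tab [[0, 1, 0, 0, 1, 0, 1]]) ![⟨1, by decide⟩]
    (tab [[2, 2, 3, 4, 3, 2, 1], [0, 0, 0, 0, 0, 0, 0], [3, 4, 6, 8, 6, 4, 2], [4, 6, 8, 12, 9, 6, 3], [1, 1, 2, 3, 3, 2, 1], [2, 3, 4, 6, 5, 4, 2], [-1, -2, -2, -3, -2, -1, 0]]) (tab [[4, 7, 8, 12, 9, 6, 3]])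
    (by decide +kernel) (by decide +kernel) (by decide +kernel) (by decide +kernel)

theorem card_zkerE7 [Finite F] : Nat.card (zker chevE7 F) = Nat.gcd 2 (Nat.card F - 1) := by
  rw [Nat.card_congr (zkerE7 F), Nat.card_fun, card_pow_ker]; simp

end Cfsg.Agent.Chev
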