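import Cfsg.Agent.Chev.CheckSound
import Cfsg.Prelude.Def_ChevE6

/-! The table facts `Good chevE6`, by kernel computation. -/

set_option autoImplicit false

namespace Cfsg.Agent.Chev

open Cfsg.Lie

/-- Certificate for type E6. -/
def certE6 : Cert where
  rtN := 0x9abaa9009aba99009aaa990099aa990089aa99009aa9990099a9990089a9990099999900899999008899990099998900899989008899890088898900888889009aa9980099a9980089a9980099999800899998008899980099989800899898008898980088889800999988008999880088998800888988009998880089988800889888009988880089888800988888007888880087888800778888008878880087788800777888008887880088778800877788007777880088887800887878008778780077787800887778008777780077777800876778007767780076677800888887008887870088778700877787007777870088777700877777007777770087677700776777007667770087667700776677007666770076567700765667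
  lenN := 0x555555555555555555555555555555555555
  coT := 0x9abaa9009aba99009aaa990099aa990089aa99009aa9990099a9990089a9990099999900899999008899990099998900899989008899890088898900888889009aa9980099a9980089a9980099999800899998008899980099989800899898008898980088889800999988008999880088998800888988009998880089988800889888009988880089888800988888007888880087888800778888008878880087788800777888008887880088778800877788007777880088887800887878008778780077787800887778008777780077777800876778007767780076677800888887008887870088778700877787007777870088777700877777007777770087677700776777007667770087667700776677007666770076567700765667
  carT := 0x88889800889878008979880097898800788988008987890097978900789789009878990079789900878899009888790079887900879879008879890088878a008988870097988700789887009879970079799700878997009887980079879800879798008878a800988977007989770087997700887a8700989778007997780087a77800997888007a788800a78888006988880096988800779888008969980097799800787998008896890089779900978799007887990088986800897978009789780078897800898779009797790078977900987889007978890087888900888986008897870089789700978897007888970089887700979877007898770098798700797987008789870098878800798788008797880088789800888878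
  w := [26, 16, -8, 28, -27, -31]
  F := 63
  inv := 0x403d0000002100004300000000000000003a002f00004700001a35323e000041231e0027223846440013102b3b39302e0016000b0000331d1b36423f020028001f00450805112c2a1400003c00310019170e0c1c37340003010f25200029240600000915122d000000000018000d0000000000000000040000260000000a07
  P := 861
  vals := [-1, 1]
  maxLen := 1
  adjL := [[4, 3, 5, 6, 4, 2], [3, 6, 6, 9, 6, 3], [5, 6, 10, 12, 8, 4], [6, 9, 12, 18, 12, 6], [4, 6, 8, 12, 10, 5], [2, 3, 4, 6, 5, 4]]
  det := 3

theorem certE6_chkT : certE6.chkT chevE6 = true := by decide +kernel
theorem certE6_chkA : certE6.chkA chevE6 = true := by decide +kernel
theorem certE6_chkB : certE6.chkB chevE6 = true := by decide +kernel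
theorem certE6_chkE : certE6.chkE chevE6 = true := by decide +kernel
theorem certE6_chkC : certE6.chkC chevE6 = true := by decide +kernel
theorem certE6_chkJ : allLt chevE6.rank (certE6.chkJ chevE6) = true := by decide +kernel

theorem certE6_ok : certE6.Ok chevE6 :=
  ⟨certE6_chkT, certE6_chkA, certE6_chkB, certE6_chkE, certE6_chkC, certE6_chkJ⟩

instance goodE6 : Good chevE6 := certE6_ok.good

end Cfsg.Agent.Chev
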