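import Cfsg.Agent.Chev.Cox
import Cfsg.Agent.Chev.GoodE6

/-! The reflection table of type E6; the Weyl group is the Coxeter group. -/

set_option autoImplicit false

namespace Cfsg.Agent.Chev

open Cfsg.Lie

/-- The reflection table of type E6. -/
def reflE6 : ℕ := 0x47474747464700004646454647460000454446424545000043454441444400004443434043430000424142454237000040423f444136000041403e43403500003e3f413f3c3400003f3d403e3b3300003d3e3d3d3a3200003b3c3c3c3f2d00003c3a3b3b3e2c00003a3b393a3d2b000039393a38392a000038383839380f0000373637373742000035373436364100003635333535400000333436312d3f0000343235302c3e00003233322f2b3d00003031313429310000312f3033283000002f302e32272f00002e2e2f2e192e00002c2d2d29343c00002d2b2c28333b00002b2c2a27323a00002a2a2b1d2a3900002829262d312900002927252c302800002728202b2f270000252429262626000026222825252500002326242424240000242123232323000021251f222222000022231e2121210000201f271c182000001e20221b171f00001f1e211a161e00001d1d1c2a1d0e00001c1b1d20150d00001a1c1b1f140c00001b1a1a1e130b0000191918192e1900001817191520180000161817141f170000171616131e160000151415181c0a0000131512171b090000141311161a0800001112141212070000121013111106000010111010100500000f0f0f0e0f3800000e0e0d0f0e1d00000d0c0e0d0a1c00000b0d0c0c091b00000c0b0b0b081a00000a090a0a0d150000080a07090c140000090806080b1300000607090407120000070508030611000005060502051000000304040704040000040203060303000002030105020200000101020100010000000000000100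

theorem isReflE6 : IsRefl chevE6 reflE6 := certE6_ok.isRefl (fun _ _ => rfl) (by decide +kernel)

theorem coxE6 : ∃ e : WG chevE6 ≃* CoxeterMatrix.E₆.Group, ∀ i, e (sr i) = CoxeterMatrix.E₆.simple i :=
  isReflE6.exists_cox CoxeterMatrix.E₆ (by decide +kernel)

theorem coxOrderE6 : orderOf ((List.finRange 6).map CoxeterMatrix.E₆.simple).prod = 12 :=
  isReflE6.orderOf_cox coxE6 (by decide +kernel)

end Cfsg.Agent.Chev
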