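import Cfsg.Agent.Chev.Cox
import Cfsg.Agent.Chev.GoodF4

/-! The reflection table of type F4; the Weyl group is the Coxeter group. -/

set_option autoImplicit false

namespace Cfsg.Agent.Chev

open Cfsg.Lie

/-- The reflection table of type F4. -/
def reflF4 : ℕ := 0x2e2f2f2f000000002f2d2e2e000000002d2e2b2d000000002c2c2c28000000002b2a2d2000000000292b2a1f000000002a29291e000000002828272c000000002726282700000000252724260000000026252325000000002324261d000000002422251c000000002223211b000000002121220e00000000201f202b000000001e201a2a000000001f1e1929000000001c1d1d24000000001d1b1c23000000001b1c14220000000019181f1a000000001a161e1900000000171a18180000000018151717000000001519111600000000161710150000000014131b0d000000001214130c000000001312120b000000001011160600000000110f1505000000000f100f04000000000e0e0d21000000000d0c0e14000000000b0d0a13000000000c0b091200000000090a0c0a000000000a080b090000000008090708000000000707080300000000050606110000000006040510000000000405020f0000000003030307000000000201040200000000000201010000000001000000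

theorem isReflF4 : IsRefl chevF4 reflF4 := certF4_ok.isRefl (fun _ _ => rfl) (by decide +kernel)

theorem coxF4 : ∃ e : WG chevF4 ≃* CoxeterMatrix.F₄.Group, ∀ i, e (sr i) = CoxeterMatrix.F₄.simple i :=
  isReflF4.exists_cox CoxeterMatrix.F₄ (by decide +kernel)

theorem coxOrderF4 : orderOf ((List.finRange 4).map CoxeterMatrix.F₄.simple).prod = 12 :=
  isReflF4.orderOf_cox coxF4 (by decide +kernel)

end Cfsg.Agent.Chev
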