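import Cfsg.Agent.Chev.Tw2
import Cfsg.Agent.Chev.SymF4
import Cfsg.Agent.Chev.Zker
import Cfsg.Agent.Invol.Dihedral
import Cfsg.Prelude.Def_LieTwisted

/-! The twisted group ²F₄(q): `foldF4` (BN-structure), orders, perfectness, Weyl group. -/

set_option autoImplicit false

namespace Cfsg.Agent.Chev

open Cfsg.Lie Sys

attribute [-simp] zsmul_eq_mul

theorem repsF4 : symF4.Reps [⟨0, by decide⟩, ⟨1, by decide⟩] := by decide +kernel
theorem orbF4_0 : symF4.Orb ⟨0, by decide⟩ [33, 24] [14, 23] := symF4.orb_of _ (by decide +kernel)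
theorem orbF4_1 : symF4.Orb ⟨1, by decide⟩ [27, 25, 28, 30] [20, 22, 19, 17] := symF4.orb_of _ (by decide +kernel)

/-- Words for the generators of the fixed Weyl group. -/
def γF4 (i : Sm chevF4) : List ℕ := if (i : ℕ) = 0 ∨ (i : ℕ) = 3 then [0, 3] else [1, 2, 1, 2]

theorem w1F4 (i : Sm chevF4) : symF4.w1 i = wd chevF4 (γF4 i) := symF4.w1_eq isReflF4 _ (by revert i; decide +kernel)

theorem w0F4 (i : Sm chevF4) : (w0 Set.univ : WG chevF4) • sm i = ng (sm i) := by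
  rw [isReflF4.w0_eq (l := [0, 1, 0, 2, 1, 0, 2, 1, 2, 3, 2, 1, 0, 2, 1, 2, 3, 2, 1, 0, 2, 1, 2, 3])
    (by simp; decide) (by simp; decide +kernel)]
  exact Fin.ext ((isReflF4.wd_smul (by decide) _).trans (by revert i; decide +kernel))

theorem weyl2F4 : Nonempty (symF4.W1 ≃* DihedralGroup 8) := by
  set a := symF4.w1 ⟨0, by decide⟩
  set b := symF4.w1 ⟨1, by decide⟩
  have ha : a * a = 1 := w0_mul_self _
  have hb : b * b = 1 := w0_mul_self _
  have h8 : orderOf (a * b) = 8 := by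
    rw [show a = _ from w1F4 _, show b = _ from w1F4 _, ← wd_append, isReflF4.orderOf_wd (n := 8) (by decide +kernel)]
  have h1 : a * (a * b) * a⁻¹ = (a * b)⁻¹ := by
    rw [← mul_assoc, ha, one_mul, mul_inv_rev, inv_eq_of_mul_eq_one_right hb]
  have := Invol.closure_equiv_dihedral ha h1 fun ⟨k, hk⟩ => by
    have h2 : (a * b) ^ 2 = 1 := by
      rw [sq, ← eq_inv_iff_mul_eq_one, ← h1, eq_mul_inv_iff_mul_eq]
      exact (((Commute.refl (a * b)).zpow_right k).eq.trans (congrArg (· * _) hk)).symm.trans (congrArg _ hk) |>.symm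
    exact absurd (h8 ▸ orderOf_dvd_of_pow_eq_one h2) (by decide)
  rwa [h8, show Subgroup.closure {a, a * b} = symF4.W1 from le_antisymm ((Subgroup.closure_le _).mpr
    (Set.pair_subset (symF4.w1_mem _) (mul_mem (symF4.w1_mem _) (symF4.w1_mem _)))) fun w hw =>
      symF4.W1_induction (one_mem _) (fun w _ i _ ih => mul_mem ih (repsF4.forall_orb
        (P := fun J => w0 J ∈ Subgroup.closure {a, a * b}) (by
          have h3 : a ∈ Subgroup.closure {a, a * b} := Subgroup.subset_closure (by simp)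
          simp only [List.forall_mem_cons, List.not_mem_nil, false_imp_iff, implies_true, and_true]
          exact ⟨h3, (Subgroup.mul_mem_cancel_left _ h3).mp (Subgroup.subset_closure (.inr rfl))⟩) i)) hw] at this

theorem even_wlenF4 {w : WG chevF4} (hw : w ∈ symF4.W1) : Even (wlen w) :=
  symF4.W1_induction (P := fun w => Even (wlen w)) (by simp) (fun w hw i hi ih => by
    rw [symF4.len_mul_w1 hw hi]
    exact ih.add (repsF4.forall_orb (P := fun J => Even (wlen (w0 J)))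
      (by simp only [List.forall_mem_cons, wlen_w0 orbF4_0.1, wlen_w0 orbF4_1.1]; decide) i)) hw

/-- Words for the elements of the fixed Weyl group. -/
def wordsF4 : List (List (Sm chevF4)) := ([[], [0], [1], [0, 1], [1, 0], [0, 1, 0], [1, 0, 1], [0, 1, 0, 1], [1, 0, 1, 0],
  [0, 1, 0, 1, 0], [1, 0, 1, 0, 1], [0, 1, 0, 1, 0, 1], [1, 0, 1, 0, 1, 0], [0, 1, 0, 1, 0, 1, 0], [1, 0, 1, 0, 1, 0, 1],
  [0, 1, 0, 1, 0, 1, 0, 1]] : List (List (Fin 4)))

theorem exists_sumF4 : ∃ T : Finset (WG chevF4), (∀ w, w ∈ T ↔ w ∈ symF4.W1) ∧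
    ∀ q : ℕ, ∑ w ∈ T, q ^ (wlen w / 2) = (1 + q) * (1 + q ^ 2) * (1 + q ^ 3) * (1 + q ^ 6) := by
  obtain ⟨T, h1, h2⟩ := symF4.exists_list γF4 w1F4 isReflF4 wordsF4 List.mem_cons_self (by decide) (by decide +kernel)
    (by decide +kernel)
  refine ⟨T, h1, fun q => ?_⟩
  have h3 : ∀ l : List (Sm chevF4), wlen (wd chevF4 (l.flatMap γF4)) = certF4.invs chevF4 (wact reflF4 (l.flatMap γF4)) :=
    fun l => certF4_ok.wlen_eq (isReflF4.wd_smul fun k hk => by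
      obtain ⟨i, -, hi⟩ := List.mem_flatMap.mp hk
      exact (by decide : ∀ i, ∀ k ∈ γF4 i, k < chevF4.rank) i k hi)
  rw [h2, funext fun l => congrArg (fun n => q ^ (n / 2)) (h3 l), ← Function.comp_def (q ^ ·), ← List.map_map,
    (by decide +kernel : List.map _ wordsF4 = [0, 1, 2, 3, 3, 4, 5, 6, 6, 7, 8, 9, 9, 10, 11, 12])]
  simp only [List.map_cons, List.map_nil, List.sum_cons, List.sum_nil]
  ring

variable {K : Type*} [Field K] {e : ℕ} {φ : K →+* K} (hp : ((2 : ℕ) : K) = 0) (hφ : ∀ t, φ t = t ^ e)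
  (h2 : ∀ t, φ (φ t) ^ 2 = t)

variable (φ) in
/-- The twisting endomorphism of the Steinberg group of type F4. -/
abbrev αF4 : (stS chevF4 K).Aut symF4 := twF4_ok.autSt symF4 symF4_ρ hp φ

variable (φ) in
/-- The parametrisation of the fixed torus. -/
def paramF4 : Kˣ × Kˣ →* (Sm chevF4 → Kˣ) where
  toFun t := (![Units.map (φ : K →* K) t.1, Units.map (φ : K →* K) t.2, t.2, t.1] : Fin 4 → Kˣ)
  map_one' := funext fun i : Fin 4 => by fin_cases i <;> simp <;> rfl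
  map_mul' t u := funext fun i : Fin 4 => by fin_cases i <;> simp <;> rfl

theorem chi_paramF4 (t : Kˣ) (r : Rt chevF4) : chi (paramF4 φ (t, 1)) r =
    Units.map (φ : K →* K) t ^ chevF4.cartan 0 r * t ^ chevF4.cartan 3 r ∧ chi (paramF4 φ (1, t)) r =
    Units.map (φ : K →* K) t ^ chevF4.cartan 1 r * t ^ chevF4.cartan 2 r :=
  ⟨(Fin.prod_univ_four fun i => paramF4 φ (t, 1) i ^ car i r).trans (show _ ^ _ * Units.map (φ : K →* K) 1 ^ _ *
      1 ^ _ * t ^ _ = _ by simp; rfl), (Fin.prod_univ_four fun i => paramF4 φ (1, t) i ^ car i r).trans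
    (show Units.map (φ : K →* K) 1 ^ _ * _ * t ^ _ * 1 ^ _ = _ by simp; rfl)⟩

theorem tor_injectiveF4 : Function.Injective (stS_mult chevF4 K).tor :=
  (stS_mult chevF4 K).tor_injective (stCover _ _) (zkerF4_eq_bot K)

include h2

theorem fixTF4_eq : twF4.fixT symF4 φ = (paramF4 φ).range :=
  Subgroup.ext fun a : Fin 4 → Kˣ => ⟨fun h => ⟨(a 3, a 2), funext fun i : Fin 4 => by
      fin_cases i
      exacts [Units.ext ((h (3 : Fin 4)).trans (pow_one _)).symm, Units.ext ((h (2 : Fin 4)).trans (pow_one _)).symm,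
        rfl, rfl]⟩, by
    rintro ⟨t, rfl⟩ (i : Fin 4)
    fin_cases i
    exacts [(h2 _).symm, (h2 _).symm, (pow_one _).symm, (pow_one _).symm]⟩

include hφ

theorem fixF4_pair {ψ : Fn chevF4} {Z : Set (Rt chevF4)} (hZ : Nilp ψ Z) {r s : ℕ} (hE : Enum Z [r, s])
    (k : twF4.Mv chevF4 r s 2 ∧ twF4.Mv chevF4 s r 1 ∧ CommIs chevF4 twF4.p r s []) {t u : K} :
    gword (stS chevF4 K).x [(r, t), (s, u)] ∈ (αF4 φ hp).fix ↔ [(r, t), (s, u)] = f4PairWord e r s u := by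
  rw [twF4_ok.fix2 symF4_ρ hp φ hZ hE k]
  simp only [f4PairWord, List.cons.injEq, Prod.mk.injEq, true_and, and_true, ← hφ, pow_one]
  exact ⟨fun h => h.1.symm, by rintro rfl; exact ⟨rfl, h2 u⟩⟩

theorem fixF4_B {ψ : Fn chevF4} {Z : Set (Rt chevF4)} (hZ : Nilp ψ Z) {a b c d : ℕ} (hE : Enum Z [a, b, c, d])
    (k : twF4.Mv chevF4 a b 2 ∧ twF4.Mv chevF4 b a 1 ∧ twF4.Mv chevF4 c d 2 ∧ twF4.Mv chevF4 d c 1 ∧
      CommIs chevF4 twF4.p a b [(c, 1, 1, 1), (d, 1, 2, 1)] ∧ CommIs chevF4 twF4.p c d []) {t u v z : K} :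
    gword (stS chevF4 K).x [(a, t), (b, u), (c, v), (d, z)] ∈ (αF4 φ hp).fix ↔
      ∃ y, [(a, t), (b, u), (c, v), (d, z)] = b2ClassWord e a b c d u y := by
  have := ringChar.of_eq ((CharP.ringChar_of_prime_eq_zero Nat.prime_two hp))
  rw [twF4_ok.fixB symF4_ρ hp φ hZ hE k]
  simp only [b2ClassWord, List.cons.injEq, Prod.mk.injEq, true_and, and_true, pow_add, pow_one, mul_comm 2 e, pow_mul,
    ← hφ, CharTwo.neg_eq]
  constructor
  · rintro ⟨rfl, -, rfl, -⟩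
    exact ⟨φ z, rfl, by rw [h2], (h2 z).symm⟩
  · rintro ⟨y, rfl, rfl, rfl⟩
    simp only [h2, map_add, map_mul, map_pow, add_pow_char, mul_pow, true_and]
    rw [mul_comm, ← add_assoc, CharTwo.add_self_eq_zero, zero_add]

theorem genF4 : (αF4 φ hp).Gen ((stS chevF4 K).genW (f4Words K e)) := by
  have c := stCover chevF4 K
  have l := @TwD.Ok.le_of_fix _ _ K _ _ twF4_ok _ symF4_ρ hp φ
  have g1 := @fixF4_pair _ _ _ _ hp hφ h2 _ _ (nilp_posJ _) _ _ orbF4_0.1 (by decide +kernel)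
  have g2 := @fixF4_B _ _ _ _ hp hφ h2 _ _ (nilp_posJ _) _ _ _ _ orbF4_1.1 (by decide +kernel)
  refine (αF4 φ hp).gen_genW c repsF4 ?_ ?_
  · rintro _ (⟨t, rfl | rfl⟩ | ⟨t, u, rfl | rfl⟩)
    exacts [⟨g1.mpr rfl, .inl (orbF4_0.mem_UP rfl)⟩,
      ⟨(fixF4_pair hp hφ h2 (nilp_negJ _) orbF4_0.2 (by decide +kernel)).mpr rfl, .inr (orbF4_0.mem_UN rfl)⟩,
      ⟨g2.mpr ⟨_, rfl⟩, .inl (orbF4_1.mem_UP rfl)⟩,
      ⟨(fixF4_B hp hφ h2 (nilp_negJ _) orbF4_1.2 (by decide +kernel)).mpr ⟨_, rfl⟩, .inr (orbF4_1.mem_UN rfl)⟩]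
  · simp only [List.forall_mem_cons, List.not_mem_nil, false_imp_iff, implies_true, and_true]
    exact ⟨⟨l (nilp_posJ _) orbF4_0.1 fun t ht => .inl ⟨_, .inl (g1.mp ht)⟩,
        ⟨_, .inl ⟨1, .inr rfl⟩, orbF4_0.neg c rfl (by simp)⟩, _, .inl ⟨1, .inl rfl⟩, orbF4_0.top c rfl (by simp)⟩,
      l (nilp_posJ _) orbF4_1.1 fun t ht => .inr ⟨_, _, .inl (g2.mp ht).choose_spec⟩,
        ⟨_, .inr ⟨1, 0, .inr rfl⟩, orbF4_1.neg c rfl (by simp)⟩, _, .inr ⟨1, 0, .inl rfl⟩, orbF4_1.top c rfl (by simp)⟩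

include hp

theorem foldF4 : (adS chevF4 K).Fold symF4 (twistedF4 K e) := by
  rw [twistedF4, ← (stCover chevF4 K).map_genW]
  exact (genF4 hp hφ h2).fold.map _ (stS_U_univ _ _)

theorem tor_memF4 (t : Kˣ × Kˣ) : (stS_mult chevF4 K).tor (paramF4 φ t) ∈ (stS chevF4 K).genW (f4Words K e) := by
  set ψ := Units.map (φ : K →* K)
  have h := (genF4 hp hφ h2).tor_sq_mem (stS_mult _ _) w0F4
    (twF4_ok.tor_mem_fix symF4 symF4_ρ hp φ ((fixTF4_eq h2).ge ⟨(ψ (ψ t.1), ψ (ψ t.2)), rfl⟩))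
  rwa [← map_pow (paramF4 φ), show (ψ (ψ t.1), ψ (ψ t.2)) ^ 2 = t from
    Prod.ext (Units.ext (h2 _)) (Units.ext (h2 _))] at h

theorem H_inf_eqF4 : (stS chevF4 K).H ⊓ (stS chevF4 K).genW (f4Words K e) =
    (twF4.fixT symF4 φ).map (stS_mult chevF4 K).tor :=
  twF4_ok.H_inf_eq symF4 symF4_ρ hp φ tor_injectiveF4 (genF4 hp hφ h2).le fun a ha => by
    obtain ⟨t, rfl⟩ := fixTF4_eq h2 ▸ ha
    exact tor_memF4 hp hφ h2 t

theorem card_UIF4 (i : Sm chevF4) :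
    Nat.card ↥((adS chevF4 K).UI (symF4.w1 i) ⊓ twistedF4 K e) ^ 2 = Nat.card K ^ wlen (symF4.w1 i) := by
  have c := @TwD.Ok.card_of_fix _ _ K _ _ twF4_ok _ symF4_ρ hp φ
  have g1 := @fixF4_pair _ _ _ _ hp hφ h2 _ _ (nilp_posJ _) _ _ orbF4_0.1 (by decide +kernel)
  have g2 := @fixF4_B _ _ _ _ hp hφ h2 _ _ (nilp_posJ _) _ _ _ _ orbF4_1.1 (by decide +kernel)
  rw [twistedF4, ← (stCover chevF4 K).map_genW]
  refine (genF4 hp hφ h2).card_UI _ (stS_U_univ _ _) repsF4 ?_ i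
  simp only [List.forall_mem_cons, List.not_mem_nil, false_imp_iff, implies_true, and_true]
  refine ⟨⟨_, _, orbF4_0, ?_⟩, _, _, orbF4_1, ?_⟩
  · rw [c (nilp_posJ _) orbF4_0.1 (f4PairWord e 33 24) (fun _ _ e => by simp_all [f4PairWord])
      (fun _ => rfl) (fun t => g1.mpr rfl) fun t ht => ⟨_, g1.mp ht⟩]; rfl
  · rw [c (nilp_posJ _) orbF4_1.1 (fun p : K × K => b2ClassWord e 27 25 28 30 p.1 p.2) (fun _ _ e => by
      simp only [b2ClassWord, List.cons.injEq, Prod.mk.injEq] at e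
      exact Prod.ext e.2.1.2 (add_left_cancel (e.2.1.2 ▸ e.2.2.1.2)))
      (fun _ => rfl) (fun t => g2.mpr ⟨_, rfl⟩) fun t ht => ⟨(_, _), (g2.mp ht).choose_spec⟩, Nat.card_prod, ← sq,
      ← pow_mul]; rfl

theorem card_HF4 : Nat.card ↥((adS chevF4 K).H ⊓ twistedF4 K e) = (Nat.card K - 1) ^ 2 := by
  have := (stCover chevF4 K).card_H (stS_mult _ _) (stS_U_univ _ _) (H_inf_eqF4 hp hφ h2)
  rwa [zkerF4_eq_bot, bot_inf_eq, Subgroup.card_bot, one_mul, Cover.map_genW, fixTF4_eq h2,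
    ← Nat.card_congr (MonoidHom.ofInjective (f := paramF4 φ) fun _ _ e =>
      Prod.ext (congrFun e (3 : Fin 4)) (congrFun e (2 : Fin 4))).toEquiv, Nat.card_prod, Nat.card_units, ← sq] at this

theorem card_UF4 : Nat.card ↥((adS chevF4 K).UP ⊓ twistedF4 K e) = Nat.card K ^ 12 :=
  pow_left_injective two_ne_zero (((foldF4 hp hφ h2).card_UP_pow (adCover _ _) (card_UIF4 hp hφ h2)).trans
    (pow_mul _ 12 2))

variable [Finite K]

theorem card_twistedF4 : Nat.card (twistedF4 K e) = Nat.card K ^ 12 * (Nat.card K - 1) ^ 2 *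
    ((1 + Nat.card K) * (1 + Nat.card K ^ 2) * (1 + Nat.card K ^ 3) * (1 + Nat.card K ^ 6)) := by
  obtain ⟨T, h3, h4⟩ := exists_sumF4
  rw [(foldF4 hp hφ h2).card_eq (adCover _ _) h3, card_UF4 hp hφ h2, card_HF4 hp hφ h2, ← h4]
  congr 1
  refine Finset.sum_congr rfl fun w hw => pow_left_injective two_ne_zero ?_
  exact ((foldF4 hp hφ h2).card_UI_pow (adCover _ _) (card_UIF4 hp hφ h2) ((h3 w).mp hw)).trans
    (by beta_reduce; rw [← pow_mul, Nat.div_mul_cancel (even_wlenF4 ((h3 w).mp hw)).two_dvd])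

theorem perfectF4 (h : 2 < Nat.card K) : commutator ((stS chevF4 K).genW (f4Words K e)) = ⊤ := by
  obtain ⟨t, ht⟩ := exists_pow_ne_one (F := K) one_pos h
  have := ringChar.of_eq ((CharP.ringChar_of_prime_eq_zero Nat.prime_two hp))
  have key : ∀ {k l : ℤ}, ((2 : ℕ) * l ^ 2 - k ^ 2) ∣ (2 ^ 3 : ℕ) → Units.map (φ : K →* K) t ^ k * t ^ l ≠ 1 :=
    fun ⟨k, hk⟩ e => ht (Units.ext ((iterateFrobenius K 2 3).injective (by
      rw [Units.val_one, map_one, pow_one, iterateFrobenius_def, ← Units.val_pow_eq_pow_val, ← zpow_natCast, hk, zpow_mul,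
        zpow_eq_one_of_twist _ (Units.ext (h2 t)) e, one_zpow, Units.val_one])))
  refine (genF4 hp hφ h2).perfect repsF4 ?_
  simp only [List.forall_mem_cons, List.not_mem_nil, false_imp_iff, implies_true, and_true]
  exact ⟨(stCover chevF4 K).le_commutator (stS_mult _ _) (nilp_posJ _) (tor_memF4 hp hφ h2 (t, 1)) fun r hr =>
      (chi_paramF4 t r).1 ▸ key ((by decide +kernel : ∀ r : Rt chevF4, (r : ℕ) ∈ [33, 24] →
        ((2 : ℕ) * chevF4.cartan 3 r ^ 2 - chevF4.cartan 0 r ^ 2) ∣ (2 ^ 3 : ℕ)) r ((orbF4_0.1.2.2 r).mpr hr)),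
    (stCover chevF4 K).le_commutator (stS_mult _ _) (nilp_posJ _) (tor_memF4 hp hφ h2 (1, t)) fun r hr =>
      (chi_paramF4 t r).2 ▸ key ((by decide +kernel : ∀ r : Rt chevF4, (r : ℕ) ∈ [27, 25, 28, 30] →
        ((2 : ℕ) * chevF4.cartan 2 r ^ 2 - chevF4.cartan 1 r ^ 2) ∣ (2 ^ 3 : ℕ)) r ((orbF4_1.1.2.2 r).mpr hr))⟩

end Cfsg.Agent.Chev
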