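import Cfsg.Agent.Chev.Cox
import Cfsg.Agent.Chev.GoodE7

/-! The reflection table of type E7; the Weyl group is the Coxeter group. -/

set_option autoImplicit false

namespace Cfsg.Agent.Chev

open Cfsg.Lie

/-- The reflection table of type E7. -/
def reflE7 : ℕ := 0x7d7d7d7d7d7d7c007c7c7c7c7b7c7d007b7b7b7a7c7b7b007a7a797b7a767a0079787a79797579007779787878747800787777777773770076767576767a7600757476727579750073757471747874007473737073777300727172756c72720070726f746b71710071706e736a7070006e6f716f696f6f006f6d706e686e6e006d6e6d6d676d6d006c6b6c6c726c5c006a6c696b716b5b006b6a686a706a5a0068696b666f69590069676a656e685800676867646d67570065666669666256006664656865615500646563676460540063636463635f53006162626262664d006260616161654c0060615f6060644b005f5f605e5f634a005e5e5e5f5d5e49005d5d5d5d5e5d20005c5b5c5c5c5c6c005a5c595b5b5b6b005b5a585a5a5a6a0058595b565959690059575a5558586800575857545757670055565659524d660056545558514c650054555357504b6400535354534f4a63005152525256485200525051515547510050514f50544650004f4f504e53454f004e4e4e4f4e2f4e004c4d4d4d485662004d4b4c4c475561004b4c4a4b465460004a4a4b4945535f004949494a34495e00474848444d524800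484647434c514700464745424b504600454546384a4f45004344414844444400444240474343430042433b4642424200403f444141414100413d4340404040003e413f3f3f3f3f003f3c3e3e3e3e3e003c403a3d3d3d3d003d3e393c3c3c3c003b3a42373b3b3b00393b3d363a3a3a003a393c353939390038383745332e38003736383b322d37003537363a312c360036353539302b35003434343349341f0033333234382a1e003231333237291d003032313136281c003130303035271b002f2f2f2e2f4e2f002e2e2d2f2a382e002d2c2e2d29372d002b2d2c2c28362c002c2b2b2b27352b002a2a292a2e331a0029282a262d321900272928252c311800282727242b301700262526292626160024262328252515002524222724241400222325232323130023212422222212002122212121211100202020201f205d001f1f1f1e201f34001e1e1d1f1e1a33001d1c1e1d1d1932001b1d1c1c1c1831001c1b1b1b1b1730001a1a191a1a1e2a0019181a16191d290017191815181c280018171714171b27001615161910162600141613180f152500151412170e142400121315130d132300131114120c122200111211110b112100100f1010161010000e100d0f150f0f000f0e0c0e140e0e000c0d0f0a130d0d000d0b0e09120c0c000b0c0b08110b0b00090a0a0d0a060a000a08090c090509000809070b08040800070708070703070005060606060a06000604050505090500040503040408040003030402030703000202020301020200010101010201000000000000000001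

theorem isReflE7 : IsRefl chevE7 reflE7 := certE7_ok.isRefl (fun _ _ => rfl) (by decide +kernel)

theorem coxE7 : ∃ e : WG chevE7 ≃* CoxeterMatrix.E₇.Group, ∀ i, e (sr i) = CoxeterMatrix.E₇.simple i :=
  isReflE7.exists_cox CoxeterMatrix.E₇ (by decide +kernel)

theorem coxOrderE7 : orderOf ((List.finRange 7).map CoxeterMatrix.E₇.simple).prod = 18 :=
  isReflE7.orderOf_cox coxE7 (by decide +kernel)

end Cfsg.Agent.Chev
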