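import Cfsg.Agent.Chev.Cent
import Cfsg.Agent.ChAut.Diag
import Cfsg.Agent.ChAut.Norm
/-! Recognising elements of `B` and `H` from their action on a few unipotent elements
(`Cover.mem_B_of_top`, `Cover.mem_H_of_top`), inner-diagonal elements centralising them (`inndiag_cent`). -/

set_option autoImplicit false

namespace Cfsg.Agent.Chev

open Cfsg.Lie Sys ChAut

variable {D : ChevalleyDatum} [Good D] [Conn D] {F : Type*} [Field F]

namespace Sys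

variable {G : Type*} [Group G] {X : Sys D F G}

omit [Conn D] in
theorem stab_ne_sm (i : Sm D) : X.Stab {r | Pos r ∧ r ≠ sm i} := by
  simp only [← pos_not_inJ_singleton]
  exact stab_of_upper (fun _ h => h.1) fun r h k e =>
    ⟨fun i => (h.1 i).trans (e i), fun e' => h.2 fun j hj => le_antisymm (e' j hj ▸ e j) (h.1 j)⟩

theorem Cover.mem_B_of_top (c : X.Cover) {g : G} (hg : g ∈ X.U Set.univ)
    (h : ∀ i, ∃ y ∈ X.UP, g * y * g⁻¹ ∈ X.UP ∧ g * y * g⁻¹ ∉ X.U {r | Pos r ∧ r ≠ sm i}) : g ∈ X.B := by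
  obtain ⟨w, hw⟩ := exists_cell hg
  refine c.mem_B_of_cell (inv_eq_one.mp (eq_one_of_pos (w := w⁻¹) fun i => ?_) ▸ hw)
  have s1 : X.Stab {r | Pos r} := stab_of_upper (fun _ h => h) fun _ h _ e i => (h i).trans (e i)
  obtain ⟨y, h1, h2, h3⟩ := h i
  obtain ⟨r, a1, a2, a3⟩ := c.conj_root hw s1 s1 (stab_ne_sm i) h1 h2 h3
  have : w • r = sm i := by_contra fun e => a3 ⟨a2, e⟩
  rwa [← this, inv_smul_smul]

theorem Cover.mem_H_of_top (c : X.Cover) {g : G} (hg : g ∈ X.U Set.univ)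
    (h : ∀ i, ∃ y ∈ X.UP, g * y * g⁻¹ ∈ X.UP ∧ g * y * g⁻¹ ∉ X.U {r | Pos r ∧ r ≠ sm i})
    (h' : ∀ i, ∃ y ∈ X.UN, g * y * g⁻¹ ∈ X.UN ∧ g * y * g⁻¹ ∉ X.U {r | ¬ Pos r ∧ r ≠ ng (sm i)}) : g ∈ X.H := by
  obtain ⟨n, h1, h2⟩ := X.exists_mem_N (w0 Set.univ)
  refine c.mem_H_of_conj h2 h1 (c.mem_B_of_top hg h) (c.mem_B_of_top
    (mul_mem (mul_mem (X.N_le_grp h1) hg) (inv_mem (X.N_le_grp h1))) fun i => ?_)
  obtain ⟨y, a1, a2, a3⟩ := h' (opp i)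
  have e : n * g * n⁻¹ * (n * y * n⁻¹) * (n * g * n⁻¹)⁻¹ = n * (g * y * g⁻¹) * n⁻¹ := by group
  refine ⟨_, (w0_UP h2 y).2 a1, e ▸ (w0_UP h2 _).2 a2, e ▸ fun a4 => a3 ((mon_mem_U_iff h2 (fun r => ?_) _).1 a4)⟩
  simp only [Set.mem_setOf_eq, pos_w0]
  rw [← opp_opp i, ← w0_ng_sm, opp_opp, Ne, smul_left_cancel_iff]

theorem Cover.x_mul_not_mem_neg (c : X.Cover) (i : Sm D) {t : F} (ht : t ≠ 0) {y : G}
    (hy : y ∈ X.U {r | ¬ Pos r ∧ r ≠ ng (sm i)}) : X.x (ng (sm i)) t * y ∉ X.U {r | ¬ Pos r ∧ r ≠ ng (sm i)} := by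
  obtain ⟨n, -, h2⟩ := X.exists_mem_N (w0 Set.univ)
  have e : ∀ z, n * z * n⁻¹ ∈ X.U {r | Pos r ∧ r ≠ sm (opp i)} ↔ z ∈ X.U {r | ¬ Pos r ∧ r ≠ ng (sm i)} :=
    mon_mem_U_iff h2 fun r => by
      simp only [Set.mem_setOf_eq, pos_w0]
      rw [← w0_ng_sm, Ne, smul_left_cancel_iff]
  obtain ⟨a, -, ha⟩ := h2
  rw [← e, show n * (X.x (ng (sm i)) t * y) * n⁻¹ = n * X.x (ng (sm i)) t * n⁻¹ * (n * y * n⁻¹) by group, ha,
    w0_ng_sm]
  exact c.x_mul_not_mem (X.stab_ne_sm _).nilp subset_rfl (pos_sm _) (by simp) (by simpa) ((e y).2 hy)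

end Sys

/-- An inner-diagonal element centralising elements with nonzero fundamental components is trivial. -/
theorem inndiag_cent {g : GL D.Idx F} (hg : g ∈ (adS D F).U Set.univ) (b : Sm D → Fˣ)
    (h : ∀ i, ∃ y ∈ (adS D F).U {r | Pos r ∧ r ≠ sm i}, Commute (g * dGL D F b) ((adS D F).x (sm i) 1 * y))
    (h' : ∀ i, ∃ y ∈ (adS D F).U {r | ¬ Pos r ∧ r ≠ ng (sm i)},
      Commute (g * dGL D F b) ((adS D F).x (ng (sm i)) 1 * y)) : ∃ c, ∀ j, chi c (sm j) * b j = 1 := by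
  have c := adCover D F
  have e : ∀ {z}, Commute (g * dGL D F b) z → g * (dGL D F b * z * (dGL D F b)⁻¹) * g⁻¹ = z := fun hz => by
    rw [← mul_assoc, ← mul_assoc, hz.eq]; group
  have h1 : g ∈ (adS D F).H := c.mem_H_of_top hg (fun i => by
      obtain ⟨y, a1, a2⟩ := h i
      have a3 := mul_mem ((adS D F).x_mem_U (S := {r | Pos r}) (pos_sm i) 1) ((adS D F).U_mono (fun _ h => h.1) a1)
      exact ⟨_, (dGL_mem_U b _ _).2 a3, (e a2).symm ▸ a3, (e a2).symm ▸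
        c.x_mul_not_mem ((adS D F).stab_ne_sm _).nilp subset_rfl (pos_sm _) (by simp) one_ne_zero a1⟩) fun i => by
    obtain ⟨y, a1, a2⟩ := h' i
    have a3 := mul_mem ((adS D F).x_mem_U (S := {r | ¬ Pos r}) (not_pos_ng_sm i) 1)
      ((adS D F).U_mono (fun _ h => h.1) a1)
    exact ⟨_, (dGL_mem_U b _ _).2 a3, (e a2).symm ▸ a3, (e a2).symm ▸ c.x_mul_not_mem_neg i one_ne_zero a1⟩
  obtain ⟨a, rfl⟩ := (adS_mult D F).exists_tor h1
  refine ⟨a, fun j => ?_⟩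
  obtain ⟨y, a1, a2⟩ := h j
  rw [tor_eq_dGL, ← map_mul] at a2
  set d := (fun j => chi a (sm j)) * b
  have a3 : (adS D F).x (sm j) (d j - 1) * (dGL D F d * y * (dGL D F d)⁻¹ * y⁻¹) = 1 := by
    have := dGL_conj d (sm j) 1
    rw [rch_sm, mul_one] at this
    rw [sub_eq_neg_add, (adS D F).add, ← this, x_neg]
    calc _ = ((adS D F).x (sm j) 1)⁻¹ * (dGL D F d * ((adS D F).x (sm j) 1 * y)) * (dGL D F d)⁻¹ * y⁻¹ := by group
      _ = 1 := by rw [a2.eq]; group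
  by_contra hne
  exact c.x_mul_not_mem ((adS D F).stab_ne_sm j).nilp subset_rfl (pos_sm j) (by simp)
    (t := d j - 1) (fun e => hne (Units.ext (sub_eq_zero.mp e))) (mul_mem ((dGL_mem_U d _ _).2 a1) (inv_mem a1))
    (a3 ▸ one_mem _)

end Cfsg.Agent.Chev
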