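import Cfsg.Agent.Chev.Poin
import Cfsg.Agent.Chev.GoodE8

/-! The Poincaré polynomial of the Weyl group of type E8. -/

set_option autoImplicit false

namespace Cfsg.Agent.Chev

open Cfsg.Lie

theorem stepOKE8_0 : certE8.stepOK chevE8 255 255 127 239 = true := by decide +kernel

theorem poinE8_0 (t : ℕ) : poin (Sym.one chevE8) (msk chevE8 255) t =
    (List.map (t ^ ·) [57, 56, 55, 54, 53, 52, 51, 51, 50, 49, 48, 47, 46, 45, 50, 49, 48, 47, 46, 45, 44, 47, 46, 45, 44, 43, 45, 44, 43, 42, 43, 42, 41, 41, 40, 39, 44, 43, 42, 41, 42, 41, 40, 40, 39, 38, 41, 40, 39, 39, 38, 37, 38, 37, 36, 35, 40, 39, 38, 38, 37, 36, 37, 36, 35, 34, 36, 35, 34, 33, 32, 35, 34, 33, 32, 31, 30, 29, 39, 38, 37, 37, 36, 35, 36, 35, 34, 33, 35, 34, 33, 32, 31, 34, 33, 32, 31, 30, 29, 34, 33, 32, 31, 30, 29, 33, 32, 31, 30, 29, 32, 31, 30, 29, 31, 30, 29, 30, 29, 29, 28, 28, 27, 28, 27, 26, 28, 27, 26, 25, 28, 27,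 26, 25, 24, 28, 27, 26, 25, 24, 23, 28, 27, 26, 25, 24, 23, 26, 25, 24, 23, 22, 24, 23, 22, 21, 22, 21, 20, 20, 19, 18, 28, 27, 26, 25, 24, 23, 22, 25, 24, 23, 22, 21, 23, 22, 21, 20, 21, 20, 19, 19, 18, 17, 22, 21, 20, 19, 20, 19, 18, 18, 17, 16, 19, 18, 17, 17, 16, 15, 16, 15, 14, 13, 18, 17, 16, 16, 15, 14, 15, 14, 13, 12, 14, 13, 12, 11, 10, 13, 12, 11, 10, 9, 8, 7, 12, 11, 10, 9, 8, 7, 6, 6, 5, 4, 3, 2, 1, 0]).sum * poin (Sym.one chevE8) (msk chevE8 127) t :=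
  certE8_ok.poin_step (fun _ => rfl) _ (by decide) (ρ := id) (fun _ => rfl) rfl (fun _ => rfl) stepOKE8_0
    (by decide +kernel) t

theorem stepOKE8_1 : certE8.stepOK chevE8 127 127 126 226 = true := by decide +kernel

theorem poinE8_1 (t : ℕ) : poin (Sym.one chevE8) (msk chevE8 127) t =
    (List.map (t ^ ·) [33, 32, 31, 30, 29, 28, 27, 29, 28, 27, 26, 27, 26, 25, 25, 24, 23, 26, 25, 24, 24, 23, 22, 23, 22, 21, 20, 22, 21, 20, 19, 18, 17, 25, 24, 23, 23, 22, 21, 22, 21, 20, 19, 21, 20, 19, 18, 17, 21, 20, 19, 18, 17, 20, 19, 18, 17, 19, 18, 17, 18, 17, 17, 16, 16, 15, 16, 15, 14, 16, 15, 14, 13, 16, 15, 14, 13, 12, 16, 15, 14, 13, 12, 14, 13, 12, 11, 12, 11, 10, 10, 9, 8, 16, 15, 14, 13, 12, 11, 13, 12, 11, 10, 11, 10, 9, 9, 8, 7, 10, 9, 8, 8, 7, 6, 7, 6, 5, 4, 6, 5, 4, 3, 2, 1, 0]).sum * poin (Sym.one chevE8) (msk chevE8 126) t :=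
  certE8_ok.poin_step (fun _ => rfl) _ (by decide) (ρ := id) (fun _ => rfl) rfl (fun _ => rfl) stepOKE8_1
    (by decide +kernel) t

theorem stepOKE8_2 : certE8.stepOK chevE8 126 126 94 159 = true := by decide +kernel

theorem poinE8_2 (t : ℕ) : poin (Sym.one chevE8) (msk chevE8 126) t =
    (List.map (t ^ ·) [17, 16, 15, 15, 14, 13, 14, 13, 12, 11, 13, 12, 11, 10, 9, 13, 12, 11, 10, 9, 12, 11, 10, 9, 11, 10, 9, 10, 9, 9, 8, 8, 7, 8, 7, 6, 8, 7, 6, 5, 8, 7, 6, 5, 4, 8, 7, 6, 5, 4, 6, 5, 4, 3, 4, 3, 2, 2, 1, 0]).sum * poin (Sym.one chevE8) (msk chevE8 94) t :=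
  certE8_ok.poin_step (fun _ => rfl) _ (by decide) (ρ := id) (fun _ => rfl) rfl (fun _ => rfl) stepOKE8_2
    (by decide +kernel) t

theorem stepOKE8_3 : certE8.stepOK chevE8 94 30 86 152 = true := by decide +kernel

theorem poinE8_3 (t : ℕ) : poin (Sym.one chevE8) (msk chevE8 94) t =
    (List.map (t ^ ·) [9, 8, 7, 7, 6, 5, 7, 6, 5, 6, 5, 5, 4, 4, 3, 4, 3, 2, 4, 3, 2, 2, 1, 0]).sum * poin (Sym.one chevE8) (msk chevE8 86) t :=
  certE8_ok.poin_step (fun _ => rfl) _ (by decide) (ρ := id) (fun _ => rfl) rfl (fun _ => rfl) stepOKE8_3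
    (by decide +kernel) t

theorem stepOKE8_4 : certE8.stepOK chevE8 86 2 84 141 = true := by decide +kernel

theorem poinE8_4 (t : ℕ) : poin (Sym.one chevE8) (msk chevE8 86) t =
    (List.map (t ^ ·) [1, 0]).sum * poin (Sym.one chevE8) (msk chevE8 84) t :=
  certE8_ok.poin_step (fun _ => rfl) _ (by decide) (ρ := id) (fun _ => rfl) rfl (fun _ => rfl) stepOKE8_4
    (by decide +kernel) t

theorem stepOKE8_5 : certE8.stepOK chevE8 84 4 80 135 = true := by decide +kernel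

theorem poinE8_5 (t : ℕ) : poin (Sym.one chevE8) (msk chevE8 84) t =
    (List.map (t ^ ·) [1, 0]).sum * poin (Sym.one chevE8) (msk chevE8 80) t :=
  certE8_ok.poin_step (fun _ => rfl) _ (by decide) (ρ := id) (fun _ => rfl) rfl (fun _ => rfl) stepOKE8_5
    (by decide +kernel) t

theorem stepOKE8_6 : certE8.stepOK chevE8 80 16 64 126 = true := by decide +kernel

theorem poinE8_6 (t : ℕ) : poin (Sym.one chevE8) (msk chevE8 80) t =
    (List.map (t ^ ·) [1, 0]).sum * poin (Sym.one chevE8) (msk chevE8 64) t :=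
  certE8_ok.poin_step (fun _ => rfl) _ (by decide) (ρ := id) (fun _ => rfl) rfl (fun _ => rfl) stepOKE8_6
    (by decide +kernel) t

theorem stepOKE8_7 : certE8.stepOK chevE8 64 64 0 121 = true := by decide +kernel

theorem poinE8_7 (t : ℕ) : poin (Sym.one chevE8) (msk chevE8 64) t =
    (List.map (t ^ ·) [1, 0]).sum * poin (Sym.one chevE8) (msk chevE8 0) t :=
  certE8_ok.poin_step (fun _ => rfl) _ (by decide) (ρ := id) (fun _ => rfl) rfl (fun _ => rfl) stepOKE8_7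
    (by decide +kernel) t

set_option maxRecDepth 8000 in
theorem poinE8 (t : ℕ) : ((t : ℤ) - 1) ^ 8 * poin (Sym.one chevE8) Set.univ t =
    ((t : ℤ) ^ 2 - 1) * ((t : ℤ) ^ 8 - 1) * ((t : ℤ) ^ 12 - 1) * ((t : ℤ) ^ 14 - 1) * ((t : ℤ) ^ 18 - 1) * ((t : ℤ) ^ 20 - 1) * ((t : ℤ) ^ 24 - 1) * ((t : ℤ) ^ 30 - 1) := by
  rw [← msk_univ (K := 255) (by decide), poinE8_0, poinE8_1, poinE8_2, poinE8_3, poinE8_4, poinE8_5, poinE8_6, poinE8_7, msk_zero, poin_empty]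
  simp only [List.map, List.sum_cons, List.sum_nil]
  push_cast
  ring

theorem card_WGE8 : Nat.card (WG chevE8) = 696729600 := by
  rw [card_WG, ← msk_univ (K := 255) (by decide), poinE8_0, poinE8_1, poinE8_2, poinE8_3, poinE8_4, poinE8_5, poinE8_6, poinE8_7, msk_zero, poin_empty]
  decide +kernel

end Cfsg.Agent.Chev
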