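import Cfsg.Agent.Chev.SemiC
import Cfsg.Agent.Chev.PoinG2
import Cfsg.Agent.Chev.PoinF4
import Cfsg.Agent.Chev.PoinE8

/-! Involutions of G₂, F₄, E₈ in odd characteristic: `exists_two_classes`, certificates (`centG2`, `orbG2'`, ...),
Poincaré polynomials of maximal parabolic subgroups (`poinF4_k7`, `poinF4_14`, ..., `poinE8_254`). -/

set_option autoImplicit false

namespace Cfsg.Agent.Chev

open Cfsg.Lie

theorem two_ne_zero_of_odd {F : Type*} [Field F] [Finite F] (h : Odd (Nat.card F)) : (2 : F) ≠ 0 := fun e => by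
  have := Fintype.ofFinite F
  obtain ⟨k, hk⟩ := h
  simpa [← Nat.card_eq_fintype_card, hk, e] using FiniteField.cast_card_eq_zero F

theorem exists_char (F : Type*) [Field F] [Finite F] : ∃ (p N : ℕ) (_ : Fact p.Prime) (_ : CharP F p), Nat.card F = p ^ N := by
  have := Fintype.ofFinite F
  obtain ⟨p, _, n, hp, e⟩ := FiniteField.card' F
  exact ⟨p, n, ⟨hp⟩, ‹_›, Nat.card_eq_fintype_card.trans e⟩

theorem exists_two_classes {D : ChevalleyDatum} [Good D] [Conn D] {F : Type*} [Field F] [Finite F] (hz : zker D F = ⊥)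
    (hz' : zker D (AlgebraicClosure F) = ⊥) (hF : Odd (Nat.card F)) {C : Cert} (h : C.Ok D) (hl : ∀ r : Rt D, ln r = C.len r)
    {v v' : List ℤ} {d : ℕ → ℕ} (ho : C.orbOK D [[], v, v'] d = true) {J J' : ℕ} {M M' : List ℕ}
    {L L' : List (List ℤ × List ℕ)} (hc : C.centOK D 2 v J M L = true) (hc' : C.centOK D 2 v' J' M' L' = true)
    {a a' : ℕ} {E E' : List ℕ} (H : (∃ i, ¬ 2 ∣ vec D v i) ∧ (∃ i, ¬ 2 ∣ vec D v' i) ∧ C.cent0 D 2 v = a ∧
      C.cent0 D 2 v' = a' ∧ (L.map fun p => C.cent1 D 2 p.1) = E ∧ (L'.map fun p => C.cent1 D 2 p.1) = E' ∧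
      ((List.range D.nroots).filter fun r => zeq (C.fv D v r % 2) 0).length ≠
        ((List.range D.nroots).filter fun r => zeq (C.fv D v' r % 2) 0).length) :
    ∃ s t : D.group F, orderOf s = 2 ∧ orderOf t = 2 ∧ ¬ IsConj s t ∧ (∀ u, orderOf u = 2 → IsConj u s ∨ IsConj u t) ∧
      (Nat.card (Subgroup.centralizer {s}) : ℤ) = Nat.card F ^ a *
        (E.map (Nat.card F ^ ·)).sum * ((Nat.card F - 1) ^ D.rank * poin (Sym.one D) (msk D J) (Nat.card F)) ∧
      (Nat.card (Subgroup.centralizer {t}) : ℤ) = Nat.card F ^ a' *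
        (E'.map (Nat.card F ^ ·)).sum * ((Nat.card F - 1) ^ D.rank * poin (Sym.one D) (msk D J') (Nat.card F)) := by
  obtain ⟨p, N, _, _, hN⟩ := exists_char F
  have h2 := two_ne_zero_of_odd hF
  have hi := (stS_mult D F).tor_injective (stCover D F) hz
  have h3 : ∀ v : Sm D → ℤ, (∃ i, ¬ 2 ∣ v i) → orderOf (stEquiv D F hz ((stS_mult D F).tor (sg F v))) = 2 :=
    fun v ⟨i, e⟩ => by
      rw [MulEquiv.orderOf_eq, orderOf_injective _ hi]
      exact orderOf_eq_prime (sg_sq v) fun e' => e ((neg_one_zpow_eq_one h2).mp (congrFun e' i))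
  refine ⟨_, _, h3 _ H.1, h3 _ H.2.1, fun e => H.2.2.2.2.2.2 ?_, fun u hu => ?_,
    by rw [card_centralizer_congr, h.card_cent_sg hi h2 hl hc H.2.2.1 H.2.2.2.2.1],
    by rw [card_centralizer_congr, h.card_cent_sg hi h2 hl hc' H.2.2.2.1 H.2.2.2.2.2.1]⟩
  · have := (stCover D F).ncard_eq_of_isConj _ (stS_U_univ D F) hi
      (by simpa using (stEquiv D F hz).symm.toMonoidHom.map_isConj e)
    rwa [ncard_eq_length fun r => ?_, ncard_eq_length fun r => ?_] at this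
    all_goals simp only [Ker, Set.mem_ofPred_eq, chi_sg h2, zeq_iff, h.fv_eq, Int.dvd_iff_emod_eq_zero]
  · obtain ⟨w, hw, e⟩ := (big_of_zker (p := p) hz').invol (algebraMap F _) hN h2 h ho
      (List.forall_mem_cons.mpr ⟨(h.cent hl hc).1, List.forall_mem_singleton.mpr (h.cent hl hc').1⟩) (u := (stEquiv D F hz).symm u) (by simpa)
    replace e := ((stEquiv D F hz).toMonoidHom.map_isConj e).symm
    simp only [List.mem_cons, List.not_mem_nil, or_false] at hw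
    exact hw.imp (by rintro rfl; simpa using e) (by rintro rfl; simpa using e)

theorem centG2_0 : certG2.centOK chevG2 2 [1, 2] 1 [11]
    [([1, 2], []), ([-1, -2], [0])] = true := by decide +kernel

theorem orbG2' : certG2.orbOK chevG2 [[], [1, 2]]
    (byt 0x1020000) = true := by decide +kernel

set_option maxRecDepth 8000 in
theorem poinG2_k1 (t : ℕ) : ((t : ℤ) - 1) ^ 2 * poin (Sym.one chevG2) (msk chevG2 1) t =
    ((t : ℤ) - 1) * ((t : ℤ) ^ 2 - 1) := by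
  rw [poinG2_1, msk_zero, poin_empty]
  simp only [List.map, List.sum_cons, List.sum_nil]
  push_cast
  ring

theorem poinG2_m2 (t : ℕ) : poin (Sym.one chevG2) (msk chevG2 2) t =
    (List.map (t ^ ·) [1, 0]).sum * poin (Sym.one chevG2) (msk chevG2 0) t :=
  certG2_ok.poin_step (K0 := 2) (μ := 6) (fun _ => rfl) _ (by decide) (ρ := id) (fun _ => rfl) rfl (fun _ => rfl)
    (by decide +kernel) (by decide +kernel) t

set_option maxRecDepth 8000 in
theorem poinG2_k2 (t : ℕ) : ((t : ℤ) - 1) ^ 2 * poin (Sym.one chevG2) (msk chevG2 2) t =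
    ((t : ℤ) - 1) * ((t : ℤ) ^ 2 - 1) := by
  rw [poinG2_m2, msk_zero, poin_empty]
  simp only [List.map, List.sum_cons, List.sum_nil]
  push_cast
  ring

theorem centF4_0 : certF4.centOK chevF4 2 [2, 3, 4, 2] 14 [44]
    [([2, 3, 4, 2], []), ([0, -1, -2, -2], [0]), ([0, -1, -2, 0], [1]), ([0, -1, 0, 0], [2]), ([-2, -3, -4, -2], [3]), ([0, 1, 0, 0], [4]), ([0, 1, 2, 0], [5]), ([0, 1, 2, 2], [6])] = true := by decide +kernel

theorem centF4_1 : certF4.centOK chevF4 2 [1, 2, 3, 2] 7 [47]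
    [([1, 2, 3, 2], []), ([-1, -2, -3, -2], [0])] = true := by decide +kernel

theorem orbF4' : certF4.orbOK chevF4 [[], [2, 3, 4, 2], [1, 2, 3, 2]]
    (byt 0x4050106030402070506000701000200) = true := by decide +kernel

set_option maxRecDepth 8000 in
theorem poinF4_k7 (t : ℕ) : ((t : ℤ) - 1) ^ 4 * poin (Sym.one chevF4) (msk chevF4 7) t =
    ((t : ℤ) - 1) * ((t : ℤ) ^ 2 - 1) * ((t : ℤ) ^ 4 - 1) * ((t : ℤ) ^ 6 - 1) := by
  rw [poinF4_1, poinF4_2, poinF4_3, msk_zero, poin_empty]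
  simp only [List.map, List.sum_cons, List.sum_nil]
  push_cast
  ring

theorem poinF4_m14 (t : ℕ) : poin (Sym.one chevF4) (msk chevF4 14) t =
    (List.map (t ^ ·) [7, 6, 5, 5, 4, 4, 3, 3, 2, 2, 1, 0]).sum * poin (Sym.one chevF4) (msk chevF4 10) t :=
  certF4_ok.poin_step (K0 := 14) (μ := 32) (fun _ => rfl) _ (by decide) (ρ := id) (fun _ => rfl) rfl (fun _ => rfl)
    (by decide +kernel) (by decide +kernel) t

theorem poinF4_m10 (t : ℕ) : poin (Sym.one chevF4) (msk chevF4 10) t =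
    (List.map (t ^ ·) [1, 0]).sum * poin (Sym.one chevF4) (msk chevF4 8) t :=
  certF4_ok.poin_step (K0 := 2) (μ := 27) (fun _ => rfl) _ (by decide) (ρ := id) (fun _ => rfl) rfl (fun _ => rfl)
    (by decide +kernel) (by decide +kernel) t

theorem poinF4_m8 (t : ℕ) : poin (Sym.one chevF4) (msk chevF4 8) t =
    (List.map (t ^ ·) [1, 0]).sum * poin (Sym.one chevF4) (msk chevF4 0) t :=
  certF4_ok.poin_step (K0 := 8) (μ := 24) (fun _ => rfl) _ (by decide) (ρ := id) (fun _ => rfl) rfl (fun _ => rfl)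
    (by decide +kernel) (by decide +kernel) t

set_option maxRecDepth 8000 in
theorem poinF4_14 (t : ℕ) : ((t : ℤ) - 1) ^ 4 * poin (Sym.one chevF4) (msk chevF4 14) t =
    ((t : ℤ) - 1) * ((t : ℤ) ^ 2 - 1) * ((t : ℤ) ^ 4 - 1) * ((t : ℤ) ^ 6 - 1) := by
  rw [poinF4_m14, poinF4_m10, poinF4_m8, msk_zero, poin_empty]
  simp only [List.map, List.sum_cons, List.sum_nil]
  push_cast
  ring

theorem poinF4_m11 (t : ℕ) : poin (Sym.one chevF4) (msk chevF4 11) t =
    (List.map (t ^ ·) [3, 2, 2, 1, 1, 0]).sum * poin (Sym.one chevF4) (msk chevF4 8) t :=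
  certF4_ok.poin_step (K0 := 3) (μ := 34) (fun _ => rfl) _ (by decide) (ρ := id) (fun _ => rfl) rfl (fun _ => rfl)
    (by decide +kernel) (by decide +kernel) t

set_option maxRecDepth 8000 in
theorem poinF4_11 (t : ℕ) : ((t : ℤ) - 1) ^ 4 * poin (Sym.one chevF4) (msk chevF4 11) t =
    ((t : ℤ) - 1) * ((t : ℤ) ^ 2 - 1) * ((t : ℤ) ^ 3 - 1) * ((t : ℤ) ^ 2 - 1) := by
  rw [poinF4_m11, poinF4_m8, msk_zero, poin_empty]
  simp only [List.map, List.sum_cons, List.sum_nil]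
  push_cast
  ring

theorem poinF4_m13 (t : ℕ) : poin (Sym.one chevF4) (msk chevF4 13) t =
    (List.map (t ^ ·) [3, 2, 2, 1, 1, 0]).sum * poin (Sym.one chevF4) (msk chevF4 1) t :=
  certF4_ok.poin_step (K0 := 12) (μ := 26) (fun _ => rfl) _ (by decide) (ρ := id) (fun _ => rfl) rfl (fun _ => rfl)
    (by decide +kernel) (by decide +kernel) t

theorem poinF4_m1 (t : ℕ) : poin (Sym.one chevF4) (msk chevF4 1) t =
    (List.map (t ^ ·) [1, 0]).sum * poin (Sym.one chevF4) (msk chevF4 0) t :=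
  certF4_ok.poin_step (K0 := 1) (μ := 33) (fun _ => rfl) _ (by decide) (ρ := id) (fun _ => rfl) rfl (fun _ => rfl)
    (by decide +kernel) (by decide +kernel) t

set_option maxRecDepth 8000 in
theorem poinF4_13 (t : ℕ) : ((t : ℤ) - 1) ^ 4 * poin (Sym.one chevF4) (msk chevF4 13) t =
    ((t : ℤ) - 1) * ((t : ℤ) ^ 2 - 1) * ((t : ℤ) ^ 2 - 1) * ((t : ℤ) ^ 3 - 1) := by
  rw [poinF4_m13, poinF4_m1, msk_zero, poin_empty]
  simp only [List.map, List.sum_cons, List.sum_nil]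
  push_cast
  ring

theorem centE8_0 : certE8.centOK chevE8 2 [4, 5, 7, 10, 8, 6, 4, 2] 254 [239, 226]
    [([4, 5, 7, 10, 8, 6, 4, 2], []), ([0, -1, -1, -2, -2, -2, -2, -2], [0]), ([0, -1, -1, -2, -2, -2, -2, 0], [1]), ([0, -1, -1, -2, -2, -2, 0, 0], [2]), ([0, -1, -1, -2, -2, 0, 0, 0], [3]), ([0, -1, -1, -2, 0, 0, 0, 0], [4]), ([0, -1, -1, 0, 0, 0, 0, 0], [5]), ([0, -1, 1, 0, 0, 0, 0, 0], [6]), ([0, 1, -1, 0, 0, 0, 0, 0], [7]), ([0, 1, 1, 0, 0, 0, 0, 0], [8]), ([0, 1, 1, 2, 0, 0, 0, 0], [9]), ([0, 1, 1, 2, 2, 0, 0, 0], [10]), ([0, 1, 1, 2, 2, 2, 0, 0], [11]), ([0, 1, 1, 2, 2, 2, 2, 0], [12]), ([0, 1, 1, 2, 2, 2, 2, 2], [13]), ([-4, -5, -7, -10, -8, -6, -4, -2], [13, 0])] = true := by decide +kernel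

theorem centE8_1 : certE8.centOK chevE8 2 [2, 3, 4, 6, 5, 4, 3, 2] 127 [239]
    [([2, 3, 4, 6, 5, 4, 3, 2], []), ([-2, -3, -4, -6, -5, -4, -3, -2], [0])] = true := by decide +kernel

theorem orbE8' : certE8.orbOK chevE8 [[], [4, 5, 7, 10, 8, 6, 4, 2], [2, 3, 4, 6, 5, 4, 3, 2]]
    (byt 0x151616170717081814150a0b131109190d0e0c0d110f100e13140b0c12100a1a0f100e0f0f110e1010110c0b11010d110e0f0d0e10100f0f12130c0d11110b1b111210110d130c1212130a0913030b1307060807150516061314090814040a1410110f100e120d1111120b0a12020c120f100e0f0f110e1011120d0e10120c1c16171718061807191516090a1410081a0c0d0b0c120e110d14150a0b130f091b0e0f0d0e10100f0f0f100d0c10000e100d0e0c0d110f100e13140b0c12100a1c171818190519061a16170809150f071b0b0c0a0b130d120c1516090a140e081c1819191a041a051b171807081610061c191a1a1b031b041c01001b1c021c1c00) = true := by decide +kernel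

set_option maxRecDepth 8000 in
theorem poinE8_127 (t : ℕ) : ((t : ℤ) - 1) ^ 8 * poin (Sym.one chevE8) (msk chevE8 127) t =
    ((t : ℤ) - 1) * ((t : ℤ) ^ 2 - 1) * ((t : ℤ) ^ 6 - 1) * ((t : ℤ) ^ 8 - 1) * ((t : ℤ) ^ 10 - 1) * ((t : ℤ) ^ 12 - 1) * ((t : ℤ) ^ 14 - 1) * ((t : ℤ) ^ 18 - 1) := by
  rw [poinE8_1, poinE8_2, poinE8_3, poinE8_4, poinE8_5, poinE8_6, poinE8_7, msk_zero, poin_empty]
  simp only [List.map, List.sum_cons, List.sum_nil]
  push_cast
  ring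

theorem poinE8_m254 (t : ℕ) : poin (Sym.one chevE8) (msk chevE8 254) t =
    (List.map (t ^ ·) [21, 20, 19, 19, 18, 17, 18, 17, 16, 15, 17, 16, 15, 14, 13, 16, 15, 14, 13, 12, 11, 16, 15, 14, 13, 12, 11, 15, 14, 13, 12, 11, 14, 13, 12, 11, 13, 12, 11, 12, 11, 11, 10, 10, 9, 10, 9, 8, 10, 9, 8, 7, 10, 9, 8, 7, 6, 10, 9, 8, 7, 6, 5, 10, 9, 8, 7, 6, 5, 8, 7, 6, 5, 4, 6, 5, 4, 3, 4, 3, 2, 2, 1, 0]).sum * poin (Sym.one chevE8) (msk chevE8 190) t :=
  certE8_ok.poin_step (K0 := 254) (μ := 161) (fun _ => rfl) _ (by decide) (ρ := id) (fun _ => rfl) rfl (fun _ => rfl)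
    (by decide +kernel) (by decide +kernel) t

theorem poinE8_m190 (t : ℕ) : poin (Sym.one chevE8) (msk chevE8 190) t =
    (List.map (t ^ ·) [13, 12, 11, 11, 10, 9, 10, 9, 8, 7, 10, 9, 8, 7, 9, 8, 7, 8, 7, 7, 6, 6, 5, 6, 5, 4, 6, 5, 4, 3, 6, 5, 4, 3, 4, 3, 2, 2, 1, 0]).sum * poin (Sym.one chevE8) (msk chevE8 174) t :=
  certE8_ok.poin_step (K0 := 62) (μ := 156) (fun _ => rfl) _ (by decide) (ρ := id) (fun _ => rfl) rfl (fun _ => rfl)
    (by decide +kernel) (by decide +kernel) t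

theorem poinE8_m174 (t : ℕ) : poin (Sym.one chevE8) (msk chevE8 174) t =
    (List.map (t ^ ·) [5, 4, 3, 4, 3, 3, 2, 2, 1, 2, 1, 0]).sum * poin (Sym.one chevE8) (msk chevE8 168) t :=
  certE8_ok.poin_step (K0 := 14) (μ := 147) (fun _ => rfl) _ (by decide) (ρ := id) (fun _ => rfl) rfl (fun _ => rfl)
    (by decide +kernel) (by decide +kernel) t

theorem poinE8_m168 (t : ℕ) : poin (Sym.one chevE8) (msk chevE8 168) t =
    (List.map (t ^ ·) [1, 0]).sum * poin (Sym.one chevE8) (msk chevE8 160) t :=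
  certE8_ok.poin_step (K0 := 8) (μ := 130) (fun _ => rfl) _ (by decide) (ρ := id) (fun _ => rfl) rfl (fun _ => rfl)
    (by decide +kernel) (by decide +kernel) t

theorem poinE8_m160 (t : ℕ) : poin (Sym.one chevE8) (msk chevE8 160) t =
    (List.map (t ^ ·) [1, 0]).sum * poin (Sym.one chevE8) (msk chevE8 128) t :=
  certE8_ok.poin_step (K0 := 32) (μ := 123) (fun _ => rfl) _ (by decide) (ρ := id) (fun _ => rfl) rfl (fun _ => rfl)
    (by decide +kernel) (by decide +kernel) t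

theorem poinE8_m128 (t : ℕ) : poin (Sym.one chevE8) (msk chevE8 128) t =
    (List.map (t ^ ·) [1, 0]).sum * poin (Sym.one chevE8) (msk chevE8 0) t :=
  certE8_ok.poin_step (K0 := 128) (μ := 120) (fun _ => rfl) _ (by decide) (ρ := id) (fun _ => rfl) rfl (fun _ => rfl)
    (by decide +kernel) (by decide +kernel) t

set_option maxRecDepth 8000 in
theorem poinE8_254 (t : ℕ) : ((t : ℤ) - 1) ^ 8 * poin (Sym.one chevE8) (msk chevE8 254) t =
    ((t : ℤ) - 1) * ((t : ℤ) ^ 2 - 1) * ((t : ℤ) ^ 4 - 1) * ((t : ℤ) ^ 6 - 1) * ((t : ℤ) ^ 8 - 1) * ((t : ℤ) ^ 10 - 1) * ((t : ℤ) ^ 12 - 1) * ((t : ℤ) ^ 7 - 1) := by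
  rw [poinE8_m254, poinE8_m190, poinE8_m174, poinE8_m168, poinE8_m160, poinE8_m128, msk_zero, poin_empty]
  simp only [List.map, List.sum_cons, List.sum_nil]
  push_cast
  ring

end Cfsg.Agent.Chev
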