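import Cfsg.Agent.Chev.Semi

/-! Centralizers of torus elements: the action `wc` on coroot vectors, the pairing `fl`, reflection subgroups `WS`,
orders (`Cover.card_cj'`, `sum_stab`), certificates (`Cert.centOK`, `Cert.orbOK`), involutions in odd characteristic
(`sg`, `Big.invol`, `Cert.Ok.card_cent_sg`). -/

set_option autoImplicit false

namespace Cfsg.Agent.Chev

open Cfsg.Lie Finset

attribute [-simp] zsmul_eq_mul

variable {D : ChevalleyDatum} [g : Good D] {F : Type*} [Field F]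

/-- The action of the Weyl group on the coroot lattice. -/
def wc (w : WG D) : (Sm D → ℤ) →ₗ[ℤ] (Sm D → ℤ) := ∑ i, (LinearMap.proj i).smulRight (cov (w • sm i))

theorem wc_apply (w : WG D) (v : Sm D → ℤ) (j : Sm D) : wc w v j = ∑ i, v i * cov (w • sm i) j := by simp [wc]

theorem wc_cov (w : WG D) (r : Rt D) : wc w (cov r) = cov (w • r) := funext fun j =>
  mul_left_cancel₀ (ln_pos r).ne' (by
    rw [wc_apply, mul_sum, ← ln_smul w r, ln_cov, rtv_smul_eq_sum, Finset.sum_apply, mul_sum, ln_smul]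
    exact sum_congr rfl fun i _ => by
      rw [← mul_assoc, ln_cov, mul_right_comm, ← ln_smul w (sm i), ln_cov]; simp; ring)

theorem wc_mul (w w' : WG D) (v : Sm D → ℤ) : wc (w * w') v = wc w (wc w' v) := by
  simp only [show ∀ w : WG D, wc w v = ∑ i, v i • cov (w • sm i) from fun w => by simp [wc], map_sum, map_zsmul,
    wc_cov, mul_smul]

theorem wc_one (v : Sm D → ℤ) : wc 1 v = v := funext fun j => by simp [wc_apply, cov_sm, Pi.single_apply]

/-- The pairing of coroot vectors with roots. -/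
def fl (v : Sm D → ℤ) : Fn D := ∑ i, v i • carL i

theorem fl_rtv (v : Sm D → ℤ) (r : Rt D) : fl v (rtv r) = ∑ i, v i * car i r := by simp [fl, carL_rtv]

theorem fl_wc (w : WG D) (v : Sm D → ℤ) (r : Rt D) : fl (wc w v) (rtv (w • r)) = fl v (rtv r) := by
  simp only [fl_rtv, wc_apply, sum_mul]
  rw [sum_comm]
  exact sum_congr rfl fun i _ => by rw [← A_sm, ← A_smul w, A, mul_sum]; simp only [mul_assoc]

theorem fl_inj {v v' : Sm D → ℤ} (h : ∀ i, fl v (rtv (sm i)) = fl v' (rtv (sm i))) : v = v' := by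
  by_contra e
  obtain ⟨u, h1, h2⟩ := Matrix.exists_mulVec_eq_zero_iff.mpr (Matrix.exists_vecMul_eq_zero_iff.mp
    ⟨v - v', sub_ne_zero.mpr e, funext fun j => by
      simpa [Matrix.vecMul, dotProduct, sub_mul, sub_eq_zero, fl_rtv] using h j⟩ :
        (Matrix.of fun i j : Sm D => car i (sm j)).det = 0)
  exact h1 (car_nondeg u fun i => by simpa [Matrix.mulVec, dotProduct, mul_comm] using congrFun h2 i)

theorem wc_rW (r : Rt D) (v : Sm D → ℤ) : wc (rW r) v = v - fl v (rtv r) • cov r := funext fun j => by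
  simp only [wc_apply, rW_smul, cov_of_refl (rtv_refl r _), cov_sm, A_sm, fl_rtv]
  simp [mul_sub, Pi.single_apply, sum_mul, mul_assoc]

theorem wc_eq_iff {v : Sm D → ℤ} (dom : ∀ i, 0 ≤ fl v (rtv (sm i))) {w : WG D} :
    wc w v = v ↔ w ∈ WJ {i | fl v (rtv (sm i)) = 0} :=
  ⟨fun h => mem_WJ_of_fn dom (fun _ => id) fun r => by rw [← fl_wc w v r, h],
    WJ_induction (P := fun w => wc w v = v) (wc_one v) fun i hi w _ ih => by rw [wc_mul, ih, ← rW_sm, wc_rW, hi, zero_smul, sub_zero]⟩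

theorem fn_of_pos {φ : Fn D} (dom : ∀ i, 0 ≤ φ (rtv (sm i))) {r : Rt D} (hr : Pos r) :
    0 ≤ φ (rtv r) ∧ (φ (rtv r) = 0 ↔ InJ {i | φ (rtv (sm i)) = 0} r) := by
  have h1 : φ (rtv r) = ∑ i, rtv r i * φ (rtv (sm i)) := by
    simpa using congrArg φ (rtv_smul_eq_sum 1 r)
  have h2 := fun i (_ : i ∈ univ) => mul_nonneg (hr i) (dom i)
  rw [h1, sum_eq_zero_iff_of_nonneg h2]
  exact ⟨sum_nonneg h2, by simp [InJ, or_iff_not_imp_right]⟩

theorem ncard_inv_eq {v : Sm D → ℤ} (dom : ∀ i, 0 ≤ fl v (rtv (sm i))) (m : ℤ) {z u : WG D}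
    (hz : MinJ {i | fl v (rtv (sm i)) = 0} z) (hu : u ∈ WJ {i | fl v (rtv (sm i)) = 0}) :
    {r | (Pos r ∧ ¬ Pos ((z * u) • r)) ∧ m ∣ fl v (rtv r)}.ncard =
      {s | Pos s ∧ fl (wc z v) (rtv s) < 0 ∧ m ∣ fl (wc z v) (rtv s)}.ncard + wlen u := by
  have h1 : ∀ r, fl (wc z v) (rtv ((z * u) • r)) = fl v (rtv r) := fun r => by
    rw [← fl_wc (z * u) v, wc_mul, (wc_eq_iff dom).mpr hu]
  have h2 : Function.Injective fun r : Rt D => (z * u)⁻¹ • ng r := (MulAction.injective _).comp ng_injective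
  rw [← ncard_Inv, ← Set.ncard_image_of_injective {s | Pos s ∧ _ ∧ _} h2, ← Set.ncard_union_eq (Set.disjoint_left.mpr ?_)]
  · congr 1
    ext r
    refine ⟨fun ⟨⟨a1, a2⟩, a3⟩ => ?_, ?_⟩
    · refine (fn_of_pos dom a1).1.lt_or_eq.imp (fun a4 => ⟨ng ((z * u) • r), ⟨pos_ng_iff.mpr a2, ?_⟩, by simp [mul_smul]⟩)
        fun a4 => ⟨a1, fun a5 => a2 ?_⟩
      · simpa [h1, a4] using a3
      · exact mul_smul z u r ▸ pos_smul_of_inJ hz a5 ((inJ_smul hu).mpr ((fn_of_pos dom a1).2.mp a4.symm))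
    rintro (⟨s, ⟨a1, a2, a3⟩, rfl⟩ | ⟨a1, a2⟩)
    · have h3 := h1 ((z * u)⁻¹ • ng s)
      rw [smul_inv_smul, rtv_ng, map_neg] at h3
      refine ⟨⟨by_contra fun e => ?_, by simpa [pos_ng_iff, mul_smul] using a1⟩, h3 ▸ dvd_neg.mpr a3⟩
      have := (fn_of_pos dom (pos_ng_iff.mpr e)).1
      simp only [rtv_ng, map_neg] at this
      omega
    have a3 := inJ_of_mem_Inv hu (mem_Inv.mpr ⟨a1, a2⟩)
    refine ⟨⟨a1, fun e => ?_⟩, by simp [(fn_of_pos dom a1).2.mpr a3]⟩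
    have := pos_smul_of_inJ hz (pos_ng_iff.mpr a2) (inJ_ng.mpr ((inJ_smul hu).mpr a3))
    rw [smul_ng, pos_ng_iff, ← mul_smul] at this
    exact this e
  rintro _ ⟨s, ⟨-, a2, -⟩, rfl⟩ ⟨a3, a4⟩
  have h3 := h1 ((z * u)⁻¹ • ng s)
  rw [smul_inv_smul, rtv_ng, map_neg, (fn_of_pos dom a3).2.mpr (inJ_of_mem_Inv hu (mem_Inv.mpr ⟨a3, a4⟩))] at h3
  omega

open Classical in
theorem sum_stab {v : Sm D → ℤ} (dom : ∀ i, 0 ≤ fl v (rtv (sm i))) (m : ℤ) {L : Finset (Sm D → ℤ)}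
    (h1 : ∀ w, (∀ i, m ∣ wc w v i - v i) → wc w v ∈ L) (h2 : ∀ ν ∈ L, (∀ i, m ∣ ν i - v i) ∧ ∃ w, wc w v = ν) (t : ℕ) :
    ∑ w : WG D with ∀ i, m ∣ wc w v i - v i, t ^ {r | (Pos r ∧ ¬ Pos (w • r)) ∧ m ∣ fl v (rtv r)}.ncard =
      (∑ ν ∈ L, t ^ {s | Pos s ∧ fl ν (rtv s) < 0 ∧ m ∣ fl ν (rtv s)}.ncard) *
        poin (Sym.one D) {i | fl v (rtv (sm i)) = 0} t := by
  rw [← sum_fiberwise_of_maps_to (g := fun w => wc w v) fun w hw => h1 w (mem_filter.mp hw).2, sum_mul]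
  refine sum_congr rfl fun ν hν => ?_
  obtain ⟨a1, w, rfl⟩ := h2 ν hν
  obtain ⟨z, hz, u, hu, rfl⟩ := exists_min {i | fl v (rtv (sm i)) = 0} w
  rw [wc_mul, (wc_eq_iff dom).mpr hu] at *
  rw [poin, mul_sum]
  refine (sum_bij (fun u _ => z * u) (fun u hu => ?_) (by simp) (fun w hw => ⟨z⁻¹ * w, ?_, by simp⟩) fun u hu => ?_).symm
  all_goals simp only [Set.Finite.mem_toFinset, Set.mem_ofPred_eq, mem_filter, Sym.one_W1, Subgroup.mem_top, and_true,
    mem_univ, true_and] at *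
  · simpa [wc_mul, (wc_eq_iff dom).mpr hu] using a1
  · rw [← wc_eq_iff dom, wc_mul, hw.2, ← wc_mul, inv_mul_cancel, wc_one]
  · rw [ncard_inv_eq dom m hz hu, pow_add]

/-- The reflection subgroup generated by a set of roots. -/
def WS (T : Set (Rt D)) : Subgroup (WG D) := Subgroup.closure (rW '' T)

theorem WJ_le_WS {J : Set (Sm D)} {T : Set (Rt D)} (h : ∀ j ∈ J, sm j ∈ T) : WJ J ≤ WS T :=
  Subgroup.closure_mono (by rintro _ ⟨j, hj, rfl⟩; exact ⟨_, h j hj, rW_sm j⟩)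

omit g in
theorem chi_zpow (ζ : Fˣ) (v : Sm D → ℤ) (r : Rt D) : chi (fun i => ζ ^ v i) r = ζ ^ ∑ i, v i * car i r := by
  simp [chi, zpow_sum', zpow_mul]

theorem wt_zpow (w : WG D) (ζ : Fˣ) (v : Sm D → ℤ) : wt w (fun i => ζ ^ v i) = fun i => ζ ^ wc w v i :=
  funext fun j => by simp [wt, wc_apply, zpow_sum', zpow_mul]

namespace Sys

variable {G : Type*} [Group G] {X : Sys D F G} [Conn D]

theorem Cover.mem_sup_of_WS (c : X.Cover) {T : Set (Rt D)} (hT : ∀ r ∈ T, ng r ∈ T) {n : G} {w : WG D} (hn : n ∈ X.N)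
    (hw : X.Mon n w) (h : w ∈ WS T) : n ∈ X.H ⊔ X.U T := by
  obtain ⟨z, h1, h2, h3⟩ : ∃ z ∈ X.N, X.Mon z w ∧ z ∈ X.U T := by
    clear hw
    induction h using Subgroup.closure_induction with
    | mem w hw =>
      obtain ⟨r, hr, rfl⟩ := hw
      exact ⟨_, X.n_mem_N r one_ne_zero, X.mon_n r one_ne_zero, X.n_mem_U hr (hT r hr) 1⟩
    | one => exact ⟨1, one_mem _, X.mon_one, one_mem _⟩
    | mul _ _ _ _ a b =>
      obtain ⟨z, a1, a2, a3⟩ := a
      obtain ⟨z', b1, b2, b3⟩ := b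
      exact ⟨_, mul_mem a1 b1, a2.mul b2, mul_mem a3 b3⟩
    | inv _ _ a =>
      obtain ⟨z, a1, a2, a3⟩ := a
      exact ⟨_, inv_mem a1, a2.inv, inv_mem a3⟩
  simpa using mul_mem (Subgroup.mem_sup_left (c.mul_inv_mem_H hn h1 hw h2)) (Subgroup.mem_sup_right h3)

theorem Cover.cj_fix_eq (c : X.Cover) (m : X.Mult) (hX : X.U Set.univ = ⊤) (hi : Function.Injective m.tor) {a : Sm D → Fˣ}
    (h : ∀ w, wt w a = a → w ∈ WS (Ker a)) : (m.cj a).fix = X.H ⊔ X.U (Ker a) := by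
  refine le_antisymm (fun y hy => ?_) (sup_le (m.H_le_cj a) (m.U_Ker_le a))
  obtain ⟨w, hw⟩ := exists_cell (hX ▸ Subgroup.mem_top y)
  obtain ⟨-, u, hu, z, hz, h3, u', hu', rfl⟩ := ((m.cj a).stable c).exists_canon c hy hw
  have h4 : ∀ u ∈ X.UP, u ∈ (m.cj a).fix → u ∈ X.H ⊔ X.U (Ker a) := fun u h h' =>
    Subgroup.mem_sup_right (X.U_mono (fun _ h => h.2) (c.mem_U_of_conj m nilp_Pos h h'))
  exact mul_mem (mul_mem (h4 u hu.1 hu.2) (c.mem_sup_of_WS (fun _ => ng_mem_Ker) hz.1 h3 (h w (hi (by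
    rw [← m.conj_wt h3, mul_inv_eq_iff_eq_mul, ← mul_inv_eq_iff_eq_mul.mp (m.mem_cj_fix.mp hz.2)])))))
    (h4 u' (X.UI_le w hu'.1) hu'.2)

open Classical in
theorem Cover.card_cj' [Finite F] (c : X.Cover) (m : X.Mult) (hX : X.U Set.univ = ⊤) (hi : Function.Injective m.tor)
    (a : Sm D → Fˣ) : Nat.card (m.cj a).fix = Nat.card F ^ {r | Pos r ∧ chi a r = 1}.ncard * (Nat.card F - 1) ^ D.rank *
      ∑ w : WG D with wt w a = a, Nat.card F ^ {r | (Pos r ∧ ¬ Pos (w • r)) ∧ chi a r = 1}.ncard := by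
  rw [c.card_cj m hX, c.card_B_inf fun u hu z hz => ((m.cj a).stable c).mem_of_mul_H hu hz, c.U_inf_cj m nilp_Pos,
    c.card_U (nilp_Pos.inter_Ker a), inf_eq_left.mpr (m.H_le_cj a), m.H_eq_range,
    ← Nat.card_congr (MonoidHom.ofInjective hi).toEquiv, Nat.card_fun, Nat.card_units, Nat.card_fin]
  refine congrArg _ (sum_congr (filter_congr fun w _ => ⟨fun ⟨n, _, h1, h2⟩ => hi ?_, fun h => ?_⟩) fun _ _ => rfl)
  · rw [← m.conj_wt h1, mul_inv_eq_iff_eq_mul, ← mul_inv_eq_iff_eq_mul.mp (m.mem_cj_fix.mp h2)]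
  · obtain ⟨n, h1, h2⟩ := X.exists_mem_N w
    exact ⟨n, h1, h2, by rw [m.mem_cj_fix, mul_inv_eq_iff_eq_mul, ← h, ← mul_inv_eq_iff_eq_mul.mp (m.conj_wt h2 a), h]⟩

end Sys

/-! ### Certificates -/

omit g in
theorem ncard_eq_length {S : Set (Rt D)} {p : ℕ → Bool} (h : ∀ r : Rt D, r ∈ S ↔ p r = true) :
    S.ncard = ((List.range D.nroots).filter p).length := by
  rw [← List.map_coe_finRange_eq_range, List.filter_map, List.length_map,
    ← List.toFinset_card_of_nodup ((List.nodup_finRange _).filter _), ← Set.ncard_coe_finset]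
  congr 1
  ext r
  simp [h]

variable (D) in
/-- A list as a coroot vector. -/
def vec (v : List ℤ) : Sm D → ℤ := fun i => nth 0 v i

namespace Cert

variable (C : Cert) (D)

/-- The pairing. -/
def fv (v : List ℤ) (r : ℕ) : ℤ := sumLt D.rank fun i => nth 0 v i * C.car i r

/-- A product of reflections. -/
def rf (v : List ℤ) (l : List ℕ) : List ℤ :=
  List.rec v (fun r _ u => (List.range D.rank).map fun j => nth 0 u j - C.fv D u r * C.co r j) l

/-- A test on all sums of coroots of prescribed lengths. -/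
def cmp (P : (ℕ → ℤ) → Bool) (M : List ℕ) : (ℕ → ℤ) → Bool :=
  List.rec P (fun μ _ ih f => allLt D.nroots fun ν => bor (!zeq (C.len ν) (C.len μ)) (ih fun i => f i + C.co ν i)) M

/-- The certificate for the centralizer of `ζ ^ v`. -/
def centOK (m : ℤ) (v : List ℤ) (K : ℕ) (M : List ℕ) (L : List (List ℤ × List ℕ)) : Bool :=
  band (allLt D.rank fun i => band (zle 0 (C.fv D v (D.simple i))) <| band (tb K i == zeq (C.fv D v (D.simple i)) 0)
    (zeq (nth 0 v i) (M.map (C.co · i)).sum)) <|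
  band (allL M fun r => Nat.blt r D.nroots) <|
  band (allL L fun p => band (p.1 == C.rf D v p.2) <| band (allLt D.rank fun i => zeq ((nth 0 p.1 i - nth 0 v i) % m) 0) <|
    band (Nat.beq p.1.length D.rank) <| allL p.2 fun r => band (Nat.blt r D.nroots) (zeq (C.fv D v r % m) 0)) <|
  band (decide (L.map Prod.fst).Nodup) <|
  C.cmp D (fun f => bor (!allLt D.rank fun i => zeq ((f i - nth 0 v i) % m) 0)
    (!allL L fun p => !allLt D.rank fun i => zeq (f i) (nth 0 p.1 i))) M fun _ => 0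

/-- The number of positive roots in the centralizer. -/
def cent0 (m : ℤ) (v : List ℤ) : ℕ :=
  ((List.range D.nroots).filter fun r => band (zle 1 (C.coht D r)) (zeq (C.fv D v r % m) 0)).length

/-- The exponent attached to a vector. -/
def cent1 (m : ℤ) (v : List ℤ) : ℕ := ((List.range D.nroots).filter fun r => band (zle 1 (C.coht D r)) <|
  band (zle (C.fv D v r + 1) 0) (zeq (C.fv D v r % m) 0)).length

variable {C D} (h : C.Ok D)
include h

theorem Ok.fv_eq (v : List ℤ) (r : Rt D) : C.fv D v r = fl (vec D v) (rtv r) := by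
  simp only [fv, sumLt_eq, sum_range, fl_rtv, ← h.car_eq (Fin.is_lt _) r.2]; rfl

theorem Ok.pos_iff (r : Rt D) : 1 ≤ C.coht D r ↔ Pos r := by
  simp only [coht, sumLt_eq, sum_range, ← h.co_eq r.2 (Fin.is_lt _), pos_iff_coht]; rfl

theorem Ok.rf_eq (v : List ℤ) {T : Set (Rt D)} {l : List ℕ} (hl : ∀ r ∈ l, ∃ h : r < D.nroots, ⟨r, h⟩ ∈ T) :
    ∃ w ∈ WS T, wc w (vec D v) = vec D (C.rf D v l) := by
  induction l with
  | nil => exact ⟨1, one_mem _, wc_one _⟩
  | cons r l ih =>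
    obtain ⟨w, h1, h2⟩ := ih fun r hr => hl r (List.mem_cons_of_mem _ hr)
    obtain ⟨h3, h4⟩ := hl r List.mem_cons_self
    refine ⟨rW ⟨r, h3⟩ * w, mul_mem (Subgroup.subset_closure ⟨_, h4, rfl⟩) h1, funext fun j => ?_⟩
    rw [wc_mul, h2, wc_rW, ← h.fv_eq]
    change _ = nth 0 ((List.range D.rank).map fun j => nth 0 (C.rf D v l) j - C.fv D (C.rf D v l) r * C.co r j) j
    simp [nth_eq, vec, cov, h.co_eq h3 j.2]

omit h in
theorem cmp_spec (hl : ∀ r : Rt D, ln r = C.len r) {P : (ℕ → ℤ) → Bool} (w : WG D) (M : List (Rt D)) (f : ℕ → ℤ)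
    (e : C.cmp D P (M.map Fin.val) f = true) : P (fun i => f i + (M.map fun μ => C.co (w • μ : Rt D) i).sum) = true := by
  induction M generalizing f with
  | nil => simpa [cmp] using e
  | cons μ M ih =>
    have := (bor_iff.mp (allLt_iff.mp e _ (w • μ).2)).resolve_left (by simp [← hl])
    simpa [add_assoc] using ih _ this

open Classical in
theorem Ok.cent (hl : ∀ r : Rt D, ln r = C.len r) {m : ℤ} {v : List ℤ} {K : ℕ} {M : List ℕ} {L : List (List ℤ × List ℕ)}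
    (hc : C.centOK D m v K M L = true) :
    (∀ w, (∀ i, m ∣ wc w (vec D v) i - vec D v i) → w ∈ WS {r | m ∣ fl (vec D v) (rtv r)}) ∧
    {r | Pos r ∧ m ∣ fl (vec D v) (rtv r)}.ncard = C.cent0 D m v ∧ ∀ t : ℕ,
      ∑ w : WG D with ∀ i, m ∣ wc w (vec D v) i - vec D v i,
        t ^ {r | (Pos r ∧ ¬ Pos (w • r)) ∧ m ∣ fl (vec D v) (rtv r)}.ncard =
      (L.map fun p => t ^ C.cent1 D m p.1).sum * poin (Sym.one D) (msk D K) t := by
  simp only [centOK, band_iff, allLt_iff, allL_iff, zeq_iff, zle_iff, tb_eq, beq_iff_eq, Nat.blt_eq, Nat.beq_eq,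
    decide_eq_true_eq, ← Int.dvd_iff_emod_eq_zero] at hc
  obtain ⟨c1, c2, c3, c4, c5⟩ := hc
  have dom : ∀ i, 0 ≤ fl (vec D v) (rtv (sm i)) := fun i => h.fv_eq v (sm i) ▸ (c1 i i.2).1
  have e1 : msk D K = {i | fl (vec D v) (rtv (sm i)) = 0} := Set.ext fun i => by
    simp [msk, (c1 i i.2).2.1, ← h.fv_eq]
  have h1 : ∀ p ∈ L, ∃ w ∈ WS {r | m ∣ fl (vec D v) (rtv r)}, wc w (vec D v) = vec D p.1 := fun p hp =>
    (c3 p hp).1 ▸ h.rf_eq v fun r hr => ⟨((c3 p hp).2.2.2 r hr).1, by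
      simpa [← h.fv_eq] using ((c3 p hp).2.2.2 r hr).2⟩
  have h2 : ∀ w, (∀ i, m ∣ wc w (vec D v) i - vec D v i) → ∃ p ∈ L, wc w (vec D v) = vec D p.1 := fun w hw => by
    lift M to List (Rt D) using c2
    have h3 : ∀ i : Sm D, (M.map fun μ => C.co (w • μ : Rt D) i).sum = wc w (vec D v) i := fun i => by
      rw [show vec D v = (M.map cov).sum from funext fun j => by
        simp [vec, (c1 j j.2).2.2, Pi.list_sum_apply, Function.comp_def, cov, h.co_eq (Fin.is_lt _) j.2], map_list_sum]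
      simp [Pi.list_sum_apply, Function.comp_def, wc_cov, cov, h.co_eq (Fin.is_lt _) i.2]
    have := cmp_spec hl w M _ c5
    simp only [bor_iff, Bool.not_eq_true', ← Bool.not_eq_true, allLt_iff, allL_iff, zeq_iff, zero_add, not_forall,
      ← Int.dvd_iff_emod_eq_zero] at this
    rcases this with ⟨i, hi, e⟩ | ⟨p, hp, e⟩
    · exact (e (h3 ⟨i, hi⟩ ▸ hw ⟨i, hi⟩)).elim
    · exact ⟨p, hp, funext fun i => h3 i ▸ by_contra fun e' => e ⟨i, i.2, e'⟩⟩
  refine ⟨fun w hw => ?_, ncard_eq_length fun r => by simp [h.pos_iff, h.fv_eq], fun t => ?_⟩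
  · obtain ⟨p, hp, e⟩ := h2 w hw
    obtain ⟨u, a1, a2⟩ := h1 p hp
    simpa using mul_mem a1 (WJ_le_WS (fun j hj => by simp [show fl _ _ = 0 from hj]) ((wc_eq_iff dom).mp
      (show wc (u⁻¹ * w) _ = _ by rw [wc_mul, e, ← a2, ← wc_mul, inv_mul_cancel, wc_one])))
  have h4 : ((L.map Prod.fst).map (vec D)).Nodup := c4.map_on (by
    simp only [List.forall_mem_map]
    exact fun p hp p' hp' e => List.ext_getElem (by rw [(c3 p hp).2.2.1, (c3 p' hp').2.2.1]) fun i a b => by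
      simpa [vec, nth_eq, a, b] using congrFun e ⟨i, (c3 p hp).2.2.1 ▸ a⟩)
  rw [e1, sum_stab dom m (L := ((L.map Prod.fst).map (vec D)).toFinset) (by simpa [eq_comm] using h2) (by
    simp only [List.mem_toFinset, List.forall_mem_map]
    exact fun p hp => ⟨fun i => (c3 p hp).2.1 i i.2, (h1 p hp).imp fun _ h => h.2⟩), List.sum_toFinset _ h4]
  simp only [List.map_map, Function.comp_def]
  refine congrArg (· * _) (congrArg _ (List.map_congr_left fun p _ => congrArg (t ^ ·) (ncard_eq_length fun r => ?_)))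
  simp only [Set.mem_ofPred_eq, band_iff, zle_iff, zeq_iff, h.pos_iff, h.fv_eq, Int.lt_iff_add_one_le,
    Int.dvd_iff_emod_eq_zero]

end Cert

/-! ### Involutions in the torus -/

/-- Signs. -/
def sg (F : Type*) [Field F] (v : Sm D → ℤ) : Sm D → Fˣ := fun i => (-1) ^ v i

theorem neg_one_zpow_eq_one (h2 : (2 : F) ≠ 0) {n : ℤ} : (-1 : Fˣ) ^ n = 1 ↔ 2 ∣ n := by
  rw [← orderOf_dvd_iff_zpow_eq_one, orderOf_eq_prime (p := 2) (by simp) fun e => h2 (by
    have : (-1 : F) = 1 := congrArg Units.val e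
    linear_combination -this)]; rfl

omit g in
theorem sg_eq_iff (h2 : (2 : F) ≠ 0) {v v' : Sm D → ℤ} : sg F v = sg F v' ↔ ∀ i, 2 ∣ v i - v' i :=
  funext_iff.trans (forall_congr' fun i => by rw [← mul_inv_eq_one, sg, sg, ← zpow_sub, neg_one_zpow_eq_one h2])

theorem chi_sg (h2 : (2 : F) ≠ 0) (v : Sm D → ℤ) (r : Rt D) : chi (sg F v) r = 1 ↔ 2 ∣ fl v (rtv r) := by
  rw [fl_rtv, ← neg_one_zpow_eq_one h2, ← chi_zpow]; rfl

theorem wt_sg (w : WG D) (v : Sm D → ℤ) : wt w (sg F v) = sg F (wc w v) := wt_zpow w _ v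

omit g in
theorem map_sg {K : Type*} [Field K] (ι : F →+* K) (v : Sm D → ℤ) :
    (fun i => Units.map (ι : F →* K) (sg F v i)) = sg K v := funext fun i => Units.ext (by simp [sg])

omit g in
theorem sg_sq (v : Sm D → ℤ) : sg F v ^ 2 = 1 := funext fun i => by
  rw [Pi.pow_apply, sg, ← zpow_natCast, ← zpow_mul, mul_comm, zpow_mul, zpow_natCast]; simp

/-- Descent to representatives of the orbits on the coroot lattice modulo two. -/
def Cert.orbOK (C : Cert) (D : ChevalleyDatum) (R : List (List ℤ)) (d : ℕ → ℕ) : Bool :=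
  allLt (2 ^ D.rank) fun u => bor (!allL R fun v => !allLt D.rank fun i => zeq (((tb u i).toNat - nth 0 v i) % 2) 0)
    (!allLt D.rank fun i => bor (zeq ((sumLt D.rank fun k => (tb u k).toNat * C.car k (D.simple i)) % 2) 0)
      (Nat.ble (d u) (d (Nat.xor u (bit i)))))

theorem Cert.Ok.orb {C : Cert} (h : C.Ok D) {R : List (List ℤ)} {d : ℕ → ℕ} (hc : C.orbOK D R d = true)
    (h2 : (2 : F) ≠ 0) {a : Sm D → Fˣ} (ha : a ^ 2 = 1) : ∃ v ∈ R, ∃ w, wt w a = sg F (vec D v) := by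
  classical
  obtain ⟨u, hu, rfl⟩ : ∃ u < 2 ^ D.rank, a = sg F fun i => (u.testBit i).toNat := by
    refine ⟨_, Nat.ofBits_lt_two_pow fun i => decide (a i ≠ 1), funext fun i => ?_⟩
    by_cases e : a i = 1
    · simp [sg, e]
    · have := (sq_eq_one_iff.mp congr(($ha i : F))).resolve_left fun h => e (Units.ext h)
      rw [sg, Nat.testBit_ofBits_lt _ _ i.2, decide_eq_true e]
      exact Units.ext (by simpa using this)
  clear ha
  induction' e : d u using Nat.strong_induction_on with n ih generalizing u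
  have := allLt_iff.mp hc u hu
  simp only [bor_iff, Bool.not_eq_true', ← Bool.not_eq_true, allLt_iff, allL_iff, zeq_iff, not_forall,
      ← Int.dvd_iff_emod_eq_zero, tb_eq, sumLt_eq, Nat.ble_eq, not_or, not_le, not_exists, not_not] at this
  rcases this with ⟨v, hv, e⟩ | ⟨i, hi, e1, e2⟩
  · exact ⟨v, hv, 1, by rw [wt_sg, wc_one, sg_eq_iff h2]; exact fun i => e i i.2⟩
  lift i to Sm D using hi
  obtain ⟨v, hv, w, hw⟩ := ih _ (e ▸ e2) (u ^^^ bit i)
    (Nat.xor_lt_two_pow hu (by simpa [bit, Nat.one_shiftLeft] using Nat.pow_lt_pow_right one_lt_two i.2)) rfl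
  refine ⟨v, hv, w * sr i, ?_⟩
  rw [← hw, wt_sg, wc_mul, ← wt_sg, ← rW_sm, wc_rW, (sg_eq_iff h2).mpr fun j => ?_]
  simp only [sum_range, ← h.car_eq (Fin.is_lt _) (sm i).2, ← sm_val] at e1
  rw [Pi.sub_apply, Pi.smul_apply, fl_rtv, cov_sm, Nat.testBit_xor, testBit_bit']
  by_cases e3 : j = i
  · subst e3
    change ¬ 2 ∣ ∑ i, _ * Chev.car i (sm j) at e1
    cases u.testBit j <;> simp <;> omega
  · simp [e3, Fin.val_inj, Ne.symm e3]

variable [Conn D] {K : Type*} [Field K] [IsAlgClosed K] {p : ℕ} [hp : Fact p.Prime] [CharP K p]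

theorem Big.invol (hB : Big D K p) [Finite F] (ι : F →+* K) {N : ℕ} (hF : Nat.card F = p ^ N) (h2 : (2 : F) ≠ 0) {C : Cert}
    (h : C.Ok D) {R : List (List ℤ)} {d : ℕ → ℕ} (hc : C.orbOK D ([] :: R) d = true)
    (H : ∀ v ∈ R, ∀ w, (∀ i, 2 ∣ wc w (vec D v) i - vec D v i) → w ∈ WS {r | 2 ∣ fl (vec D v) (rtv r)})
    {u : D.SteinbergGroup F} (hu : orderOf u = 2) : ∃ v ∈ R, IsConj ((stS_mult D F).tor (sg F (vec D v))) u := by
  have h3 : (2 : K) ≠ 0 := map_ofNat ι 2 ▸ (map_ne_zero ι).mpr h2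
  have h4 : stMap D ι u ^ 2 = 1 := by rw [← map_pow, ← hu, pow_orderOf_eq_one, map_one]
  obtain ⟨z, a, e⟩ := hB.exists_conj_tor (fun e => h3 ((CharP.cast_eq_zero_iff K p 2).mpr e)) h4
  obtain ⟨v, hv, w, hw⟩ := h.orb hc h3 (a := a) (hB.inj (by rw [map_pow, ← e, conj_pow, h4]; simp))
  obtain ⟨n, -, hn⟩ := (stS D K).exists_mem_N w
  have h5 : n * z * stMap D ι u * (n * z)⁻¹ = (stS_mult D K).tor (sg K (vec D v)) := by
    rw [← hw, ← (stS_mult D K).conj_wt hn, ← e]; group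
  obtain rfl | hv := List.mem_cons.mp hv
  · rw [show sg K (vec D []) = 1 from funext fun _ => zpow_zero _, map_one, conj_eq_one_iff, ← map_one (stMap D ι)] at h5
    simp [stMap_injective hB.inj ι h5] at hu
  refine ⟨v, hv, hB.isConj ι hF ?_ ?_⟩ <;> rw [stMap_tor, map_sg]
  · exact (isConj_iff.mpr ⟨_, h5⟩).symm
  rw [← Sys.Mult.cj_fix, (stCover D K).cj_fix_eq _ (stS_U_univ D K) hB.inj fun w hw => ?_]
  · exact Sys.Mult.sup_le_con (stS_mult D K) _
  · simpa only [Ker, chi_sg h3] using H v hv w (by rwa [wt_sg, sg_eq_iff h3] at hw)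

theorem Cert.Ok.card_cent_sg [Finite F] (hi : Function.Injective (stS_mult D F).tor) (h2 : (2 : F) ≠ 0) {C : Cert}
    (h : C.Ok D) (hl : ∀ r : Rt D, ln r = C.len r) {v : List ℤ} {J : ℕ} {M : List ℕ} {L : List (List ℤ × List ℕ)}
    (hc : C.centOK D 2 v J M L = true) {a : ℕ} {E : List ℕ} (ha : C.cent0 D 2 v = a)
    (hE : (L.map fun p => C.cent1 D 2 p.1) = E) :
    (Nat.card (Subgroup.centralizer {(stS_mult D F).tor (sg F (vec D v))}) : ℤ) = Nat.card F ^ a *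
      (E.map (Nat.card F ^ ·)).sum * ((Nat.card F - 1) ^ D.rank * poin (Sym.one D) (msk D J) (Nat.card F)) := by
  obtain ⟨-, h3, h4⟩ := h.cent hl hc
  rw [← Sys.Mult.cj_fix, (stCover D F).card_cj' _ (stS_U_univ D F) hi]
  simp only [wt_sg, sg_eq_iff h2, chi_sg h2]
  rw [h3, h4, ha, ← hE, List.map_map]
  push_cast [Nat.cast_sub (Nat.card_pos (α := F)), Function.comp_def]
  ring

theorem card_centralizer_congr {G G' : Type*} [Group G] [Group G'] (e : G ≃* G') (y : G) :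
    Nat.card (Subgroup.centralizer {e y}) = Nat.card (Subgroup.centralizer {y}) :=
  Nat.card_congr (e.symm.toEquiv.subtypeEquiv fun z => by
    simp only [Subgroup.mem_centralizer_singleton_iff, ← e.injective.eq_iff]; simp)

theorem Sys.Cover.ncard_eq_of_isConj {G : Type*} [Group G] {X : Sys D F G} (c : X.Cover) (m : X.Mult)
    (hX : X.U Set.univ = ⊤) (hi : Function.Injective m.tor) {a b : Sm D → Fˣ} (h : IsConj (m.tor a) (m.tor b)) :
    (Ker a).ncard = (Ker b).ncard := by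
  obtain ⟨y, hy⟩ := isConj_iff.mp h
  obtain ⟨w, hw⟩ := Sys.exists_cell (hX ▸ Subgroup.mem_top y)
  rw [← hi (c.tor_eq_of_conj m hw hy), ← Set.ncard_image_of_injective _ (MulAction.injective w)]
  congr 1
  ext r
  exact ⟨by rintro ⟨r, hr, rfl⟩; exact (chi_wt w a r).trans hr,
    fun hr => ⟨w⁻¹ • r, by rw [Ker, Set.mem_ofPred_eq, ← chi_wt w, smul_inv_smul]; exact hr, by simp⟩⟩

end Cfsg.Agent.Chev
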