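import Cfsg.Agent.Chev.SemiC
import Cfsg.Agent.Chev.Cox

/-! Element orders: powers in the filtration (`Cover.pow_mem_lvl`), orders of parabolic subgroups (`Cover.card_P`,
`dvd_card_P`), Jordan data of an element (`Big.exists_data`), enumeration of the Weyl group (`Cert.allW`),
annihilating polynomials (`Cert.Ok.pow_eq_one`), elements of twisted tori (`CycTor`, `Big.exists_order`,
`Big.exists_order_mul`), words over the prime field (`word_pow_eq_one`). -/

set_option autoImplicit false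

namespace Cfsg.Agent.Chev

open Cfsg.Lie Finset

variable {D : ChevalleyDatum} [g : Good D] {F : Type*} [Field F]

theorem Nilp.lvl {φ : Fn D} {S : Set (Rt D)} (h : Nilp φ S) (m : ℤ) : Nilp φ (lvl φ S m) :=
  ⟨fun r hr => h.pos r hr.1, fun _ ha _ hb _ hk => lvl_anti φ S (by omega) (h.comb_lvl ha.1 hb hk)⟩

theorem Up.pow_apply {A : Type*} [CommRing A] {φ : Fn D} {m : ℤ} {M : Matrix D.Idx D.Idx A} (h : Up φ m M) (n : ℕ)
    {a b : D.Idx} (e : ((M - 1) ^ n) a b ≠ 0) : n * m ≤ φ (rtI a) - φ (rtI b) := by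
  induction n generalizing b with
  | zero => obtain rfl : a = b := by_contra fun h => e (Matrix.one_apply_ne h); simp
  | succ n ih =>
    rw [pow_succ, Matrix.mul_apply] at e
    obtain ⟨c, -, hc⟩ := exists_ne_zero_of_sum_ne_zero e
    have := ih (left_ne_zero_of_mul hc)
    have := h c b (right_ne_zero_of_mul hc)
    push_cast; linarith

namespace Sys.Cover

variable {G : Type*} [Group G] {X : Sys D F G} (c : X.Cover)
include c

theorem mem_lvl_of_up {φ : Fn D} {S : Set (Rt D)} (h : Nilp φ S) {y : G} (hy : y ∈ X.U S) {m : ℤ}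
    (hu : Up φ m (c.π y : Matrix D.Idx D.Idx F)) : y ∈ X.U (lvl φ S m) := by
  classical
  by_cases h1 : m ≤ 1
  · exact X.U_mono (lvl_anti φ S h1) (h.lvl_one.symm ▸ hy)
  refine Int.leInduction (motive := fun n _ => n ≤ m → y ∈ X.U (lvl φ S n)) (m := 1) (fun _ => h.lvl_one.symm ▸ hy)
    (fun n h2 ih h3 => ?_) m (by omega) le_rfl
  obtain ⟨t, rfl⟩ := exists_prod (h.lvl n) (L := (Set.toFinite (lvl φ S n)).toFinset.toList) (by simp) (nodup_toList _)
    (ih (by omega))
  refine Subgroup.list_prod_mem _ (List.forall_mem_map.mpr fun k hk => ?_)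
  have h4 : k ∈ lvl φ S n := by simpa using hk
  by_cases h5 : n + 1 ≤ φ (rtv k)
  · exact X.x_mem_U (S := lvl φ S (n + 1)) ⟨h4.1, h5⟩ _
  obtain ⟨i, hi⟩ := exists_cov_ne_zero F k
  have h6 : ∀ L : List (Rt D), (∀ r ∈ L, r ∈ lvl φ S n) → L.Nodup →
      ((c.π (X.prod L t) : Matrix D.Idx D.Idx F) - 1) (.inl i) (.inr (ng k)) = if k ∈ L then t k * cov k i else 0 := by
    intro L h7 h8
    induction L with
    | nil => simp
    | cons r L ih =>
      rw [List.forall_mem_cons, List.nodup_cons] at *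
      rw [prod_cons, map_mul, Units.val_mul, c.π_x, coe_adS_x, (Up.y (by omega) h7.1.2 _).mul_apply (adS_up (by omega)
        (fun _ h => h.2) (c.π_mem_U (prod_mem h7.2 t))) (by simp [rtI]; omega), ih h7.2 h8.2, y_inl_ng]
      grind
  have h7 := h6 _ (by simp) (nodup_toList (Set.toFinite (lvl φ S n)).toFinset)
  rw [if_pos hk] at h7
  have h8 : t k * cov k i = 0 := by_contra fun e => by have := hu _ _ (h7 ▸ e); simp [rtI] at this; omega
  simp [(mul_eq_zero.mp h8).resolve_right hi, one_mem]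

theorem pow_mem_lvl (p : ℕ) [Fact p.Prime] [CharP F p] {φ : Fn D} {S : Set (Rt D)} (h : Nilp φ S) {a : ℤ} (ha : 0 ≤ a)
    {y : G} (hy : y ∈ X.U (lvl φ S a)) (k : ℕ) : y ^ p ^ k ∈ X.U (lvl φ S (p ^ k * a)) := by
  have : Nonempty D.Idx := ⟨.inr ⟨0, nroots_pos⟩⟩
  refine c.mem_lvl_of_up h (pow_mem (X.U_mono (fun _ h => h.1) hy) _) fun i j e => ?_
  rw [map_pow, Units.val_pow_eq_pow_val, ← one_pow (p ^ k), ← sub_pow_char_pow_of_commute _ _ (Commute.one_right _)] at e
  exact_mod_cast (adS_up ha (fun _ h => h.2) (c.π_mem_U hy)).pow_apply _ e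

theorem pow_eq_one_of_lt (p : ℕ) [Fact p.Prime] [CharP F p] {φ : Fn D} {S : Set (Rt D)} (h : Nilp φ S)
    {y : G} (hy : y ∈ X.U S) {k : ℕ} (hk : ∀ r ∈ S, φ (rtv r) < p ^ k) : y ^ p ^ k = 1 := by
  have := c.pow_mem_lvl p h zero_le_one (h.lvl_one.symm ▸ hy) k
  rwa [show lvl φ S _ = ∅ from Set.eq_empty_of_forall_notMem fun r hr => (hk r hr.1).not_ge (by simpa using hr.2), U_empty,
    Subgroup.mem_bot] at this

theorem card_P [Conn D] [Finite F] (J : Set (Sm D)) : Nat.card (X.P J) =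
    Nat.card F ^ (D.nroots / 2) * Nat.card X.H * poin (Sym.one D) J (Nat.card F) := by
  have h0 : ∀ w : WG D, X.U {r | Pos r ∧ ¬ Pos (w • r)} ≤ X.P J := fun w =>
    (X.U_mono fun _ h => h.1).trans (X.UP_le_B.trans (X.B_le_P J))
  rw [c.card_of_canon (T := (Set.toFinite {w | w ∈ WJ J ∧ w ∈ (Sym.one D).W1}).toFinset)
    (fun w hw => by
      obtain ⟨n, h1, h2, h3⟩ := X.exists_mem_N_of_mem ((Set.Finite.mem_toFinset _).mp hw).1
      exact ⟨n, h1, h2, h3 _ fun _ => X.n_mem_P⟩)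
    (fun y hy => by obtain ⟨w, h, h'⟩ := exists_cell_of_mem_P hy; exact ⟨w, by simp [h, Sym.one_W1], h'⟩)
    (fun w _ b _ n _ _ _ u hu _ => h0 _ hu), c.card_B_inf fun u hu _ _ _ => X.B_le_P J (X.UP_le_B hu),
    inf_eq_left.mpr (X.UP_le_B.trans (X.B_le_P J)), inf_eq_left.mpr (X.H_le_B.trans (X.B_le_P J)), c.card_UP, poin]
  congr 1
  exact sum_congr rfl fun w _ => by rw [inf_eq_left.mpr (h0 _), c.card_U (nilp_Inv w), ncard_Inv]

end Sys.Cover

/-- An element commuting with an element of order `p` has order dividing that of a maximal parabolic subgroup. -/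
theorem dvd_card_P [Conn D] [Finite F] {p : ℕ} [Fact p.Prime] [CharP F p] (hi : Function.Injective (stS_mult D F).tor)
    {s u : D.SteinbergGroup F} (hu : orderOf u = p) (e : Commute s u) : ∃ i : Sm D, (orderOf s : ℤ) ∣
      Nat.card F ^ (D.nroots / 2) * ((Nat.card F - 1) ^ D.rank * poin (Sym.one D) {i}ᶜ (Nat.card F)) := by
  have c := stCover D F
  have := finite_st (D := D) (F := F)
  have h0 := fun y => stS_U_univ D F ▸ Subgroup.mem_top y
  obtain ⟨z, -, h2⟩ := c.exists_conj_UP (stS_mult D F) p (Γ := ⊤) (fun y _ h => c.mem_B_of_normalizer (h0 y)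
    (Subgroup.mem_normalizer_fintype fun u hu => h u hu trivial)) le_top
    (IsPGroup.of_card (n := 1) ((Nat.card_zpowers u).trans (hu.trans (pow_one p).symm)))
  obtain ⟨z', -, J, ⟨i, hi'⟩, h4, -⟩ := c.borel_tits (V := Subgroup.zpowers (z * u * z⁻¹))
    (Subgroup.zpowers_le.mpr (h2 u (Subgroup.mem_zpowers u))) (by
      rw [Ne, Subgroup.zpowers_eq_bot, conj_eq_one_iff]; rintro rfl; exact (Fact.out : p.Prime).ne_one (by simp [← hu]))
  have h5 := (stS D F).P_mono (K := {i}ᶜ) (by rintro j hj rfl; exact hi' hj) (h4 (z * s * z⁻¹) (h0 _)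
    (Subgroup.centralizer_le_normalizer _ (by
      rw [← Subgroup.centralizer_closure, Subgroup.closure_eq, Subgroup.zpowers_eq_closure, Subgroup.centralizer_closure,
        Subgroup.mem_centralizer_singleton_iff]
      simp [mul_assoc, e.left_comm])))
  refine ⟨i, ?_⟩
  have h6 := Subgroup.orderOf_dvd_natCard _ h5
  rw [c.card_P, (stS_mult D F).H_eq_range, ← Nat.card_congr (MonoidHom.ofInjective hi).toEquiv,
    show orderOf (_ * _ * _) = orderOf s from ((MulAut.conj z').orderOf_eq _).trans ((MulAut.conj z).orderOf_eq s)] at h6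
  simpa [Nat.card_fun, Nat.card_units, mul_assoc, Nat.card_pos (α := F)] using Int.natCast_dvd_natCast.mpr h6

section Big

variable [Conn D] {K : Type*} [Field K] [IsAlgClosed K] {p : ℕ} [hp : Fact p.Prime] [CharP K p] (h : Big D K p) [Finite F]
  (ι : F →+* K) {N : ℕ} (hF : Nat.card F = p ^ N)
include h ι hF

/-- The data attached to an element of a finite group by the Jordan decomposition. -/
theorem Big.exists_data (y : D.SteinbergGroup F) : ∃ (a : Sm D → Kˣ) (w : WG D) (u : D.SteinbergGroup K) (k : ℕ),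
    wt w a = a ^ Nat.card F ∧ u ∈ (stS D K).U {r | Pos r ∧ chi a r = 1} ∧ orderOf u = p ^ k ∧ ¬ p ∣ orderOf a ∧
      orderOf y = orderOf a * orderOf u := by
  have := finite_st (D := D) (F := F)
  obtain ⟨k, n, h1, h2⟩ := Nat.exists_eq_pow_mul_and_not_dvd (orderOf_pos y).ne' p hp.out.ne_one
  have h3 : (n).Coprime (p ^ k) := hp.out.coprime_pow_of_not_dvd h1
  have h4 : orderOf (y ^ p ^ k) = n := by
    rw [orderOf_pow_of_dvd (pow_pos hp.out.pos k).ne' (h2 ▸ dvd_mul_right _ _), h2, Nat.mul_div_cancel_left _ (pow_pos hp.out.pos k)]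
  have h5 : orderOf (y ^ n) = p ^ k := by
    have : n ≠ 0 := by rintro rfl; simp at h1
    rw [orderOf_pow_of_dvd this (h2 ▸ dvd_mul_left _ _), h2, Nat.mul_div_cancel _ (Nat.pos_of_ne_zero this)]
  have h6 := stMap_injective h.inj ι
  obtain ⟨z, a, h7, h8⟩ := h.exists_conj_jordan h1 (s := stMap D ι (y ^ p ^ k)) (u := stMap D ι (y ^ n)) (k := k)
    (by rw [← map_pow, ← h4, pow_orderOf_eq_one, map_one]) (by rw [← map_pow, ← h5, pow_orderOf_eq_one, map_one])
    ((Commute.pow_pow_self _ _ _).map _)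
  obtain ⟨w, hw⟩ := exists_wt h.inj N z
  have h9 : orderOf a = n := by
    rw [← orderOf_injective _ h.inj, ← h7, ← h4, ← orderOf_injective _ h6]; exact (MulAut.conj z).orderOf_eq _
  have h10 := ((MulAut.conj z).orderOf_eq _).trans ((orderOf_injective _ h6 _).trans h5)
  exact ⟨a, w, _, k, hF ▸ hw _ _ ((h.fr_iff ι hF _).mpr ⟨_, rfl⟩) h7, h8, h10, h9 ▸ h1, by rw [h9, h2, mul_comm, ← h10]; rfl⟩

omit [Field F] [Conn D] hp h [Finite F] ι in
theorem exists_order_aux {w : WG D} {v : Sm D → ℤ} {m : ℕ} (hm : ¬ p ∣ m)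
    (h1 : ∀ j, (m : ℤ) ∣ wc w v j - Nat.card F * v j) {c : Sm D → ℤ} (h2 : ∑ i, c i * v i = 1) :
    ∃ a : Sm D → Kˣ, orderOf a = m ∧ wt w a = a ^ p ^ N ∧ ∀ r, fl v (rtv r) = 0 → chi a r = 1 := by
  have : NeZero (m : K) := ⟨by rwa [Ne, CharP.cast_eq_zero_iff K p]⟩
  have : NeZero m := .of_neZero_natCast K
  obtain ⟨ζ, hζ⟩ := HasEnoughRootsOfUnity.exists_primitiveRoot K m
  lift ζ to Kˣ using hζ.isUnit (NeZero.ne _)
  rw [IsPrimitiveRoot.coe_units_iff] at hζ
  refine ⟨fun i => ζ ^ v i, Nat.dvd_antisymm (orderOf_dvd_of_pow_eq_one (funext fun i => ?_)) ?_, funext fun j => ?_,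
    fun r e => by rw [chi_zpow, ← fl_rtv, e, zpow_zero]⟩
  · rw [Pi.pow_apply, ← zpow_natCast, ← zpow_mul, Pi.one_apply, hζ.zpow_eq_one_iff_dvd]; exact dvd_mul_left _ _
  · rw [← Int.natCast_dvd_natCast, ← mul_one (orderOf _ : ℤ), ← h2, mul_sum]
    refine dvd_sum fun i _ => ?_
    rw [mul_left_comm, mul_comm _ (v i)]
    exact Dvd.dvd.mul_left ((hζ.zpow_eq_one_iff_dvd _).mp (by
      rw [zpow_mul, zpow_natCast]; exact congrFun (pow_orderOf_eq_one fun i => ζ ^ v i) i)) _
  · rw [wt_zpow, ← hF, Pi.pow_apply, ← zpow_natCast, ← zpow_mul, ← mul_inv_eq_one, ← zpow_sub, hζ.zpow_eq_one_iff_dvd, mul_comm]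
    exact h1 j

end Big

/-! ### Certificates -/

/-- Evaluation of a polynomial. -/
def evH (q : ℤ) (c : List ℤ) : ℤ := c.foldr (fun a b => a + q * b) 0

namespace Cert

variable (C : Cert) (D)

/-- A test on all possible images of the fundamental roots. -/
def allW (P : List (ℕ × ℕ) → Bool) (n : ℕ) : List (ℕ × ℕ) → Bool :=
  Nat.rec P (fun m ih L => fc (D.simple m) fun a => allLt D.nroots fun r => bor (!band (zeq (C.len r) (C.len a))
    (allL L fun q => zeq (C.pair D r q.2) (C.pair D a q.1))) (ih ((a, r) :: L))) n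

/-- Horner's scheme. -/
def hor (L : List (ℕ × ℕ)) (j : ℕ) (c : List ℤ) : List ℤ := List.rec [] (fun a _ u => (List.range D.rank).map fun i =>
  (if i = j then a else 0) + sumLt D.rank fun k => nth 0 u k * C.co (nth (0, 0) L i).2 k) c

/-- One of the polynomials annihilates. -/
def ann (Fs : List (List ℤ)) (L : List (ℕ × ℕ)) : Bool :=
  !allL Fs fun c => !allLt D.rank fun j => allL (C.hor D L j c) (zeq · 0)

variable {C D} (h : C.Ok D)
include h

theorem Ok.allW (hl : ∀ r : Rt D, ln r = C.len r) {P : List (ℕ × ℕ) → Bool} (e : C.allW D P D.rank [] = true) (w : WG D) :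
    P (List.ofFn fun i => ((sm i : ℕ), (w • sm i : Rt D))) = true := by
  have : ∀ n ≤ D.rank, C.allW D P n ((List.ofFn fun i => ((sm i : ℕ), ((w • sm i : Rt D) : ℕ))).drop n) = true := by
    intro n hn
    induction hn using Nat.decreasingInduction with
    | self => rwa [List.drop_of_length_le (by simp)]
    | of_succ n hn ih =>
    simp only [Cert.allW, fc_eq, allLt_iff, bor_iff, Bool.not_eq_true', ← Bool.not_eq_true, band_iff, allL_iff, zeq_iff] at ih
    rw [List.drop_eq_getElem_cons (by simpa), List.getElem_ofFn]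
    refine (ih _ (w • sm ⟨n, hn⟩).2).resolve_left (not_not.mpr ⟨by rw [← hl, ln_smul, hl]; rfl, fun q hq => ?_⟩)
    obtain ⟨i, rfl⟩ := List.mem_ofFn.mp (List.mem_of_mem_drop hq)
    rw [← h.pair_eq (Fin.is_lt _) (Fin.is_lt _), pairing_eq, A_smul, ← pairing_eq, h.pair_eq (Fin.is_lt _) (Fin.is_lt _)]; rfl
  exact this 0 (Nat.zero_le _)

/-- Exponents of twisted tori. -/
theorem Ok.pow_eq_one (hl : ∀ r : Rt D, ln r = C.len r) {Fs : List (List ℤ)} (e : C.allW D (C.ann D Fs) D.rank [] = true)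
    {w : WG D} {a : Sm D → Fˣ} {q : ℕ} (ha : wt w a = a ^ q) : ∃ c ∈ Fs, (orderOf a : ℤ) ∣ evH q c := by
  have h1 := h.allW hl e w
  simp only [ann, Bool.not_eq_true', ← Bool.not_eq_true, allL_iff, not_forall, allLt_iff, zeq_iff] at h1
  obtain ⟨c, h1, h2⟩ := h1
  push Not at h2
  refine ⟨c, h1, orderOf_dvd_iff_zpow_eq_one.mpr (funext fun j => ?_)⟩
  have h3 : ∀ c, ∏ i, a i ^ nth 0 (C.hor D (List.ofFn fun i => ((sm i : ℕ), (w • sm i : Rt D))) j c) i = a j ^ evH q c := by
    intro c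
    induction c with
    | nil => simp [hor, nth, evH]
    | cons b c ih =>
      have h4 : ∀ k (n : ℤ), a k ^ (q * n) = ∏ i, a i ^ (cov (w • sm i) k * n) := fun k n => by
        rw [zpow_mul, zpow_natCast, ← Pi.pow_apply a, ← ha]
        simp only [zpow_mul, prod_zpow]; rfl
      rw [evH, List.foldr_cons, ← evH, zpow_add, mul_comm (q : ℤ), zpow_mul, ← ih, ← prod_zpow,
        prod_congr rfl fun k _ => (zpow_mul (a k) _ _).symm.trans (mul_comm (q : ℤ) _ ▸ h4 k _), prod_comm,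
        ← Fintype.prod_ite_eq' j fun i => a i ^ b, ← prod_mul_distrib]
      refine prod_congr rfl fun i _ => ?_
      generalize hu : C.hor D _ j c = u
      rw [← zpow_sum', show C.hor D _ j (b :: c) = (List.range D.rank).map _ from rfl, ← hor, hu]
      simp [nth_eq, zpow_add, Fin.val_inj, sum_range, ← h.co_eq, cov, mul_comm]
  rw [Pi.pow_apply, ← h3]
  refine prod_eq_one fun i _ => ?_
  rw [nth_eq, List.getD_eq_getElem?_getD]
  cases e : (C.hor D _ j c)[(i : ℕ)]? with
  | none => simp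
  | some x => simp [h2 j j.2 x (List.mem_of_getElem? e)]

end Cert

variable (D) in
/-- A certificate for a cyclic subgroup of a twisted torus. -/
def CycTor (R : ℕ) (l : List ℕ) (B : List (List ℤ)) (f u c : List ℤ) : Prop := (∀ i ∈ l, i < D.rank) ∧
  (∀ j : Sm D, nth 0 (nth [] B j) D.rank = 0) ∧ ∀ k < D.rank + 1, (∀ j : Sm D, ∑ i : Sm D, nth 0 (nth [] B i) k *
    coN D (wact R l (D.simple i)) j - nth 0 (0 :: nth [] B j) k = nth 0 f k * nth 0 u j) ∧
    ∑ i : Sm D, nth 0 c i * nth 0 (nth [] B i) k = if k = 0 then 1 else 0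

instance instDecidableCycTor (R : ℕ) (l : List ℕ) (B : List (List ℤ)) (f u c : List ℤ) : Decidable (CycTor D R l B f u c) := by
  unfold CycTor; infer_instance

section Big

variable [Conn D] {K : Type*} [Field K] [IsAlgClosed K] {p : ℕ} [hp : Fact p.Prime] [CharP K p] (h : Big D K p) [Finite F]
  (ι : F →+* K) {N : ℕ} (hF : Nat.card F = p ^ N) {R : ℕ} (hR : IsRefl D R) {l : List ℕ} {B : List (List ℤ)}
  {f u c : List ℤ} (H : CycTor D R l B f u c) {m : ℕ} (hm : ¬ p ∣ m)
  (e : (m : ℤ) ∣ ∑ k ∈ range (D.rank + 1), nth 0 f k * Nat.card F ^ k)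
include h ι hF hR H hm e

omit [Field F] [Conn D] hp h [Finite F] ι in
theorem exists_of_cycTor : ∃ a : Sm D → Kˣ, orderOf a = m ∧ wt (wd D l) a = a ^ p ^ N ∧
    ∀ r, (∀ k < D.rank + 1, ∑ i : Sm D, nth 0 (nth [] B i) k * car i r = 0) → chi a r = 1 := by
  obtain ⟨a, h1, h2, h3⟩ := exists_order_aux (K := K) hF (w := wd D l) hm
    (v := fun i => ∑ k ∈ range (D.rank + 1), nth 0 (nth [] B i) k * Nat.card F ^ k) (c := fun i => nth 0 c i) (fun j => by
      refine (e.mul_right (nth 0 u j)).trans (dvd_of_eq (Eq.symm ?_))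
      have : (Nat.card F : ℤ) * ∑ k ∈ range (D.rank + 1), nth 0 (nth [] B j) k * (Nat.card F : ℤ) ^ k =
          ∑ k ∈ range (D.rank + 1), nth 0 (0 :: nth [] B j) k * (Nat.card F : ℤ) ^ k := by
        rw [sum_range_succ, H.2.1, sum_range_succ', mul_add, mul_sum]
        exact congrArg₂ _ (sum_congr rfl fun k _ => by rw [pow_succ, mul_comm, mul_assoc]; rfl) (by simp [nth])
      rw [this, wc_apply]
      simp only [sum_mul]
      rw [sum_comm, ← sum_sub_distrib]
      refine sum_congr rfl fun k hk => ?_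
      rw [mul_right_comm _ _ (nth 0 u j), ← (H.2.2 k (mem_range.mp hk)).1, sub_mul, sum_mul]
      simp only [cov, hR.wd_smul H.1, sm_val, mul_right_comm]) (by
      simp only [mul_sum, ← mul_assoc]
      rw [sum_comm, sum_congr rfl fun k hk => by rw [← sum_mul, (H.2.2 k (mem_range.mp hk)).2]]
      simp)
  refine ⟨a, h1, h2, fun r hr => h3 r ?_⟩
  simp only [fl_rtv, sum_mul]
  rw [sum_comm]
  exact sum_eq_zero fun k hk => by simp only [mul_right_comm _ _ (car _ r), ← sum_mul, hr k (mem_range.mp hk), zero_mul]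

theorem Big.exists_order : ∃ z : D.SteinbergGroup F, orderOf z = m := by
  obtain ⟨a, h1, h2, -⟩ := exists_of_cycTor (K := K) hF hR H hm e
  obtain ⟨n, -, hn⟩ := (stS D K).exists_mem_N (wd D l)
  exact (h.exists_orderOf ι hF (((stS_mult D K).conj_wt hn a).trans ((congrArg _ h2).trans (fr_tor _ _).symm))).imp
    fun _ e => e.trans ((orderOf_injective _ h.inj a).trans h1)

theorem Big.exists_order_mul (r : Rt D) (hr : wact R l r = r ∧ ∀ k < D.rank + 1, ∑ i : Sm D, nth 0 (nth [] B i) k * car i r = 0) :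
    ∃ z : D.SteinbergGroup F, orderOf z = p * m := by
  obtain ⟨a, h1, h2, h3⟩ := exists_of_cycTor (K := K) hF hR H hm e
  obtain ⟨n, -, hn⟩ := (stS D K).exists_mem_N (wd D l)
  have h4 := (stS_mult D K).conj_wt hn a
  obtain ⟨d, -, hd⟩ := hn
  obtain ⟨t, ht⟩ := IsAlgClosed.exists_pow_nat_eq (d r : K) (Nat.sub_pos_of_lt (hF ▸ Finite.one_lt_card : 1 < p ^ N))
  have h5 : t ≠ 0 := by
    rintro rfl; exact (d r).ne_zero (ht.symm.trans (zero_pow (Nat.sub_pos_of_lt (hF ▸ Finite.one_lt_card : 1 < p ^ N)).ne'))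
  have h6 : orderOf ((stS D K).x r t) = p := orderOf_eq_prime (by
    have : ∀ k : ℕ, (stS D K).x r t ^ k = (stS D K).x r (k * t) := fun k => by
      induction k with
      | zero => simp
      | succ k ih => rw [pow_succ, ih, ← Sys.add]; simp [add_mul]
    simp [this]) fun e => h5 ((stCover D K).x_eq_one e)
  refine (h.exists_orderOf ι hF (n := n) (y := (stS D K).x r t * (stS_mult D K).tor a) ?_).imp fun _ e => e.trans ?_
  · rw [← conj_mul, h4, hd, map_mul, fr_tor, h2, fr, stMap_x, show wd D l • r = r from Fin.ext ((hR.wd_smul H.1 r).trans hr.1),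
      ← ht, pow_sub_one_mul (pow_pos hp.out.pos N).ne', iterateFrobenius_def]
  · rw [Commute.orderOf_mul_eq_mul_orderOf_of_coprime, h6, orderOf_injective _ h.inj, h1]
    · exact (mul_inv_eq_iff_eq_mul.mp (((stS_mult D K).tor_conj a r t).trans (by rw [h3 r hr.2]; simp))).symm
    · rwa [h6, orderOf_injective _ h.inj, h1, hp.out.coprime_iff_not_dvd]

end Big

/-- Words over the prime field. -/
theorem word_pow_eq_one [Conn D] (hz : zker D F = ⊥) {p : ℕ} [Fact p.Prime] [CharP F p] (w : List (ℕ × ZMod p)) :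
    ∃ y : D.SteinbergGroup F, ∀ k, y ^ k = 1 ↔ (adj D).word w ^ k = 1 := by
  refine ⟨gword (stS D F).x (w.map fun c => (c.1, ZMod.castHom dvd_rfl F c.2)), fun k => ?_⟩
  rw [← (stEquiv D F hz).map_eq_one_iff, Subtype.ext_iff, Units.ext_iff]
  change (((grS_mult D F).lift _ : GL D.Idx F) : Matrix D.Idx D.Idx F) = 1 ↔ _
  rw [coe_lift, map_pow, map_gword, Units.val_pow_eq_pow_val]
  simp only [(stCover D F).π_x, coe_adS_gword, wordMat_eq, ← PreRep.map_word, ← map_pow]
  exact map_eq_one_iff _ (Matrix.map_injective (RingHom.injective _))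

/-- The maximal elements for divisibility. -/
theorem max_subset {S L : Set ℕ} (h1 : ∀ n ∈ S, ∃ m ∈ L, n ∣ m) (h2 : L ⊆ S) : {n | n ∈ S ∧ ∀ m ∈ S, n ∣ m → m = n} ⊆ L :=
  fun n hn => (h1 n hn.1).elim fun _ hm => hn.2 _ (h2 hm.1) hm.2 ▸ hm.1

end Cfsg.Agent.Chev
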