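import Cfsg.Agent.Chev.Spec
import Cfsg.Agent.Chev.InvOdd
import Cfsg.Agent.Chev.CoxG2

/-! The element orders of the groups of type G₂ (`orderOf_dvd_G2`, `exists_order_G2`, `range_orderOf_G2`). -/

set_option autoImplicit false

namespace Cfsg.Agent.Chev

open Cfsg.Lie Finset

section
variable {D : ChevalleyDatum} [Good D] {K : Type*} [Field K] {a : Sm D → Kˣ}

theorem zpow_eq_one_of_chi (hz : zker D K = ⊥) {n : ℤ} (h : ∀ j, chi a (sm j) ^ n = 1) : (orderOf a : ℤ) ∣ n :=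
  orderOf_dvd_iff_zpow_eq_one.mpr (Subgroup.mem_bot.mp (hz ▸ fun j => (map_zpow (chiH (sm j)) a n).trans (h j)))

theorem chi_lin {r r' s : Rt D} (h : chi a r = 1) (h' : chi a r' = 1) {j : Sm D} {n c d e : ℤ}
    (H : ∀ i, e * rtv s i = n * rtv (sm j) i + c * rtv r i + d * rtv r' i) : chi a s ^ e = chi a (sm j) ^ n := by
  have h1 : ∀ r (e : ℤ), chi a r ^ e = ∏ i, chi a (sm i) ^ (e * rtv r i) := fun r e => by
    simp only [mul_comm e, zpow_mul, prod_zpow, ← chi_eq_prod]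
  simp only [h1 s, H, zpow_add, prod_mul_distrib, ← h1, h, h', one_zpow, mul_one]

end

theorem annG2 : certG2.allW chevG2 (certG2.ann chevG2 [[-1, 0, 1], [1, 1, 1], [1, -1, 1]]) chevG2.rank [] = true := by
  decide +kernel

/-- The first node. -/
def i0G2 : Sm chevG2 := ⟨0, by decide⟩

/-- The second node. -/
def i1G2 : Sm chevG2 := ⟨1, by decide⟩

/-- Small integers. -/
def smallZ : List ℤ := [0, 1, -1, 2, -2, 3, -3, 6, -6, 9, -9]

/-- The generic maximal orders. -/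
def ordG2L (p q : ℕ) : List ℕ := [q ^ 2 - 1, q ^ 2 + q + 1, q ^ 2 - q + 1, p * (q - 1), p * (q + 1)]

/-- The two roots generate a lattice containing `n` times the root lattice. -/
def LatG2 (n : ℤ) (r r' : Rt chevG2) : Prop := ∀ j, ∃ c ∈ smallZ, ∃ d ∈ smallZ,
  ∀ i, 0 * rtv r i = n * rtv (sm j) i + c * rtv r i + d * rtv r' i

instance instDecidableLatG2 (n : ℤ) (r r' : Rt chevG2) : Decidable (LatG2 n r r') := by unfold LatG2; infer_instance

theorem LatG2.dvd {K : Type*} [Field K] {a : Sm chevG2 → Kˣ} {n : ℤ} {r r' : Rt chevG2} (H : LatG2 n r r') (h : chi a r = 1)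
    (h' : chi a r' = 1) : (orderOf a : ℤ) ∣ n := zpow_eq_one_of_chi (zkerG2_eq_bot K) fun j => by
  obtain ⟨c, -, d, -, e⟩ := H j
  rw [← chi_lin h h' e, zpow_zero]

theorem latG2_1 : ∀ s s' : Rt chevG2, A s s' = A (sm i0G2) (sm i1G2) ∧
    A s' s = A (sm i1G2) (sm i0G2) → ∀ r r' : Rt chevG2,
    (∀ i, rtv r' i = rtv r i0G2 * rtv s i + rtv r i1G2 * rtv s' i) → LatG2 3 r r' ∨ ∃ ε ∈ [(1 : ℤ), -1],
      ∀ j : Sm chevG2, ∃ c ∈ smallZ, ∀ i, 1 * rtv (if j.1 = 0 then s else s') i =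
        ε * rtv (sm j) i + c * rtv r i + 0 * rtv r i := by decide +kernel

theorem latG2_2 : ∀ r : Rt chevG2, Pos r → r.1 ≠ 7 → 0 < rtv r i1G2 ∧ rtv r i1G2 < 3 ∧ (r.1 ≠ 11 →
    rtv r i1G2 < 2 ∧ LatG2 1 r ⟨7, by decide⟩ ∧ LatG2 3 r ⟨11, by decide⟩) := by decide +kernel

variable {F : Type*} [Field F] [Finite F] {p : ℕ} [hp : Fact p.Prime] [CharP F p] {N : ℕ} (hF : Nat.card F = p ^ N)
include hF

theorem orderOf_dvd_G2 (y : chevG2.SteinbergGroup F) :
    (∃ m ∈ ordG2L p (Nat.card F), orderOf y ∣ m) ∨ (p = 3 ∨ p = 5) ∧ orderOf y ∣ p ^ 2 ∨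
      p = 2 ∧ (orderOf y ∣ 8 ∨ orderOf y ∣ 12) := by
  have q1 : 1 ≤ Nat.card F := Nat.card_pos
  have q2 : Nat.card F ≤ Nat.card F ^ 2 := Nat.le_self_pow two_ne_zero _
  simp only [ordG2L, List.mem_cons, List.not_mem_nil, or_false, exists_eq_or_imp, exists_eq_left,
    ← Int.natCast_dvd_natCast (m := orderOf y)]
  push_cast [q1, q2, q1.trans q2]
  obtain ⟨a, w, u, k, h1, h2, -, h4, h5⟩ := (bigG2 F p).exists_data (algebraMap F _) hF y
  have h6 := (nilp_Pos (D := chevG2)).inter_Ker a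
  have c := stCover chevG2 (AlgebraicClosure F)
  have p2 := hp.out.two_le
  by_cases h7 : u = 1
  · obtain ⟨f, h8, h9⟩ := certG2_ok.pow_eq_one (fun _ => rfl) annG2 h1
    rw [h5, h7, orderOf_one, mul_one]
    simp only [List.mem_cons, List.not_mem_nil, or_false] at h8
    rcases h8 with rfl | rfl | rfl
    exacts [.inl (.inl (h9.trans (dvd_of_eq (by simp [evH]; ring)))), .inl (.inr (.inl (h9.trans (dvd_of_eq (by simp [evH]; ring))))),
      .inl (.inr (.inr (.inl (h9.trans (dvd_of_eq (by simp [evH]; ring))))))]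
  have h8 : ∀ r, chi a (w⁻¹ • r) = chi a r ^ (Nat.card F : ℤ) := fun r => by
    rw [← chi_wt w, h1, smul_inv_smul, zpow_natCast]; exact map_pow (chiH r) _ _
  obtain ⟨r, h9⟩ : {r | Pos r ∧ chi a r = 1}.Nonempty := Set.nonempty_iff_ne_empty.mpr fun e => h7 (by simpa [e] using h2)
  have h10 : (orderOf a : ℤ) ∣ Nat.card F - 1 ∨ (orderOf a : ℤ) ∣ Nat.card F + 1 := by
    obtain h | ⟨ε, b1, b2⟩ := latG2_1 (w⁻¹ • sm i0G2) (w⁻¹ • sm i1G2) ⟨A_smul _ _ _, A_smul _ _ _⟩ r (w⁻¹ • r) fun i => by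
      rw [rtv_smul_eq_sum, Finset.sum_apply]; exact Fin.sum_univ_two (fun j : Sm chevG2 => rtv r j * rtv (w⁻¹ • sm j) i)
    · obtain b | b := (Nat.dvd_prime Nat.prime_three).mp
        (Int.natCast_dvd_natCast.mp (h.dvd h9.2 (by rw [h8, h9.2, one_zpow])))
      · simp [b]
      have : ¬ 3 ∣ Nat.card F := fun e => h4 (by
        rw [b, ← (Nat.prime_dvd_prime_iff_eq Nat.prime_three hp.out).mp (Nat.prime_three.dvd_of_dvd_pow (hF ▸ e))])
      rw [b]; omega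
    · have : (orderOf a : ℤ) ∣ Nat.card F - ε := zpow_eq_one_of_chi (zkerG2_eq_bot _) fun j => by
        obtain ⟨c, -, b3⟩ := b2 j
        rw [zpow_sub, ← chi_lin h9.2 h9.2 b3, ← h8, zpow_one, mul_inv_eq_one]
        fin_cases j <;> rfl
      simp only [List.mem_cons, List.not_mem_nil, or_false] at b1
      rcases b1 with rfl | rfl
      exacts [.inl this, .inr (by simpa using this)]
  have h11 : ∀ {φ : Fn chevG2} (k : ℕ), (∀ r, Pos r → chi a r = 1 → 0 < φ (rtv r) ∧ φ (rtv r) < p ^ k) → orderOf u ∣ p ^ k :=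
    fun k h => orderOf_dvd_of_pow_eq_one (c.pow_eq_one_of_lt p ⟨fun r hr => (h r hr.1 hr.2).1, h6.closed⟩ h2
      fun r hr => (h r hr.1 hr.2).2)
  have h12 : ∀ {φ : Fn chevG2} (k : ℤ), k ≤ p → (∀ r, Pos r → chi a r = 1 → 0 < φ (rtv r) ∧ φ (rtv r) < k) →
      (orderOf y : ℤ) ∣ p * (Nat.card F - 1) ∨ (orderOf y : ℤ) ∣ p * (Nat.card F + 1) := fun k hk h => by
    have := Int.natCast_dvd_natCast.mpr (h11 1 fun r b1 b2 => ⟨(h r b1 b2).1, (h r b1 b2).2.trans_le (by simpa)⟩)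
    rw [h5, Nat.cast_mul, mul_comm, pow_one] at *
    exact h10.imp (mul_dvd_mul this) (mul_dvd_mul this)
  by_cases h13 : ∀ r, Pos r → chi a r = 1 → r.1 = 7 ∨ r.1 = 11
  · refine Or.inl <| .inr <| .inr <| .inr (h12 (φ := .proj i0G2 - .proj i1G2) 2 (by omega) fun r b1 b2 => ?_)
    exact (by decide +kernel : ∀ r : Rt chevG2, r.1 = 7 ∨ r.1 = 11 → 0 < rtv r i0G2 - rtv r i1G2 ∧
      rtv r i0G2 - rtv r i1G2 < 2) r (h13 _ b1 b2)
  push Not at h13
  obtain ⟨s, b1, b2, b3, b4⟩ := h13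
  obtain ⟨-, b5, b6⟩ := (latG2_2 s b1 b3).2.2 b4
  by_cases h14 : chi a ⟨7, by decide⟩ = 1
  · have b7 : ∀ r : Rt chevG2, Pos r → 0 < htF _ (rtv r) ∧ htF _ (rtv r) < 6 := by simp only [htF_rtv]; decide +kernel
    have b8 := fun k (h : (6 : ℤ) ≤ p ^ k) => h11 k fun r b _ => ⟨(b7 r b).1, (b7 r b).2.trans_le h⟩
    by_cases b9 : 6 ≤ p
    · exact Or.inl <| .inr <| .inr <| .inr (h12 6 (by omega) fun r b _ => b7 r b)
    simp only [← Nat.cast_pow, ← Nat.cast_ofNat (R := ℤ), Int.natCast_dvd_natCast]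
    rw [h5, Nat.dvd_one.mp (Int.natCast_dvd_natCast.mp (b5.dvd b2 h14)), one_mul]
    obtain rfl | rfl | rfl : p = 2 ∨ p = 3 ∨ p = 5 := by
      have := hp.out; push Not at b9; interval_cases p <;> simp_all (config := {decide := true})
    exacts [.inr (.inr ⟨rfl, .inl (b8 3 (by norm_num))⟩), .inr (.inl ⟨.inl rfl, b8 2 (by norm_num)⟩),
      .inr (.inl ⟨.inr rfl, b8 2 (by norm_num)⟩)]
  have b7 := fun r (b : Pos r) (e : chi a r = 1) => latG2_2 r b fun e' => h14 ((congrArg (chi a) (Fin.ext e')).symm.trans e)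
  by_cases h15 : 3 ≤ p
  · exact Or.inl <| .inr <| .inr <| .inr (h12 (φ := .proj i1G2) 3 (by omega) fun r b e => ⟨(b7 r b e).1, (b7 r b e).2.1⟩)
  by_cases h16 : chi a ⟨11, by decide⟩ = 1
  · obtain rfl : p = 2 := by omega
    rw [h5]
    exact .inr (.inr ⟨rfl, .inr (mul_dvd_mul (b6.dvd b2 h16) (Int.natCast_dvd_natCast.mpr
      (h11 (φ := .proj i1G2) 2 fun r b e => ⟨(b7 r b e).1, (b7 r b e).2.1.trans (by norm_num)⟩)))⟩)
  · exact Or.inl <| .inr <| .inr <| .inr (h12 (φ := .proj i1G2) 2 (by omega) fun r b e =>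
      ⟨(b7 r b e).1, ((b7 r b e).2.2 fun e' => h16 ((congrArg (chi a) (Fin.ext e')).symm.trans e)).1⟩)

theorem exists_order_G2 : ∀ m ∈ ordG2L p (Nat.card F), ∃ y : chevG2.SteinbergGroup F, orderOf y = m := by
  have q1 : 1 < Nat.card F := Finite.one_lt_card
  have h1 : p ∣ Nat.card F := hF ▸ dvd_pow_self _ (by rintro rfl; simp [hF] at q1)
  have h2 : ∀ m, p ∣ m → ¬ p ∣ m + 1 := fun m h e => hp.out.not_dvd_one ((Nat.dvd_add_right h).mp e)
  have h3 : ∀ m, 0 < m → p ∣ m → ¬ p ∣ m - 1 := fun m h0 h e => h2 _ e (by rwa [Nat.sub_add_cancel h0])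
  have h4 := h1.trans (dvd_pow_self _ two_ne_zero)
  have h5 : Nat.card F ≤ Nat.card F ^ 2 := Nat.le_self_pow two_ne_zero _
  have B := fun l B f u c H m h e => (bigG2 F p).exists_order (algebraMap F _) hF isReflG2 (l := l) (B := B) (f := f)
    (u := u) (c := c) H (m := m) h (dvd_of_eq e)
  have B' := fun l B f u c H m h e => (bigG2 F p).exists_order_mul (algebraMap F _) hF isReflG2 (l := l) (B := B) (f := f)
    (u := u) (c := c) H (m := m) h (dvd_of_eq e) ⟨11, by decide⟩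
  simp only [ordG2L, List.forall_mem_cons, List.not_mem_nil, false_imp_iff, implies_true, and_true]
  refine ⟨B [0] [[0, 1], [1, 1]] [-1, 0, 1] [-1, -1] [-1, 1] (by decide +kernel) _ (h3 _ (by positivity) h4) ?_,
    B [0, 1, 0, 1] [[1, 1], [2, 1]] [1, 1, 1] [-1, -1] [-1, 1] (by decide +kernel) _ (h2 _ (h4.add h1)) ?_,
    B [0, 1] [[0, 1], [1, 1]] [1, -1, 1] [-1, -1] [-1, 1] (by decide +kernel) _ (h2 _ (Nat.dvd_sub h4 h1)) ?_,
    B' [] [[1]] [-1, 1] [-1] [1] (by decide +kernel) _ (h3 _ (by positivity) h1) ?_ (by decide +kernel),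
    B' [0] [[1]] [1, 1] [-1] [1] (by decide +kernel) _ (h2 _ h1) ?_ (by decide +kernel)⟩
  all_goals simp [sum_range_succ, nth_eq, chevG2, h5, q1.le, q1.le.trans h5]; ring

omit hF [Finite F] in
theorem range_orderOf_G2 : Set.range (orderOf : chevG2.group F → ℕ) = Set.range (orderOf : chevG2.SteinbergGroup F → ℕ) := by
  rw [← (stEquiv chevG2 F (zkerG2_eq_bot F)).surjective.range_comp]
  exact congrArg _ (funext fun _ => MulEquiv.orderOf_eq _ _)

end Cfsg.Agent.Chev
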